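import Mathlib
import Cfsg.Agent.Lib.Helper73.BSW.Defs

/-!
# Brauer–Suzuki–Wall ladder, rung SRA: elements not conjugate into `K`
-/

set_option autoImplicit false

namespace Cfsg.Agent.Lib.Helper91.BSW

open Cfsg.Agent.Lib.Helper73.BSW

variable {G : Type*} [Group G]

theorem sq_of_order_two {u : G} (hu : orderOf u = 2) : u * u = 1 := by
  rw [← pow_two, ← hu]; exact pow_orderOf_eq_one u

theorem inv_of_order_two {u : G} (hu : orderOf u = 2) : u⁻¹ = u :=
  inv_eq_of_mul_eq_one_left (sq_of_order_two hu)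

theorem ne_one_of_order_two {u : G} (hu : orderOf u = 2) : u ≠ 1 := by
  rintro rfl
  rw [orderOf_one] at hu
  omega

theorem order_two_of {u : G} (h1 : u ≠ 1) (h2 : u * u = 1) : orderOf u = 2 :=
  orderOf_eq_prime (by rw [pow_two]; exact h2) h1

/-- an involutory inner automorphism without fixed points on a finite subgroup inverts it -/
theorem fpf_inverts (A : Subgroup G) [Finite A] {t : G} (htt : t * t = 1)
    (hn : ∀ k ∈ A, t * k * t⁻¹ ∈ A) (hf : ∀ k ∈ A, t * k = k * t → k = 1) :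
    ∀ k ∈ A, t * k * t⁻¹ = k⁻¹ := by
  have hti : t⁻¹ = t := inv_eq_of_mul_eq_one_left htt
  let φ : A → A := fun k => ⟨(k : G)⁻¹ * (t * k * t⁻¹), A.mul_mem (A.inv_mem k.2) (hn k k.2)⟩
  have hinj : Function.Injective φ := by
    intro k m hkm
    have h1 : (k : G)⁻¹ * (t * k * t⁻¹) = (m : G)⁻¹ * (t * m * t⁻¹) := congrArg Subtype.val hkm
    have h2 : t * ((m : G) * (k : G)⁻¹) = ((m : G) * (k : G)⁻¹) * t := by
      have e1 : (m : G) * (k : G)⁻¹ = (t * m * t⁻¹) * (t * k * t⁻¹)⁻¹ := by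
        have : (m : G) * ((k : G)⁻¹ * (t * k * t⁻¹)) = t * m * t⁻¹ := by rw [h1]; group
        calc (m : G) * (k : G)⁻¹ = (m : G) * ((k : G)⁻¹ * (t * k * t⁻¹)) * (t * k * t⁻¹)⁻¹ := by
              group
          _ = _ := by rw [this]
      have e2 : (t * m * t⁻¹) * (t * k * t⁻¹)⁻¹ = t * ((m : G) * (k : G)⁻¹) * t⁻¹ := by group
      rw [e2] at e1
      calc t * ((m : G) * (k : G)⁻¹) = t * ((m : G) * (k : G)⁻¹) * t⁻¹ * t := by group
        _ = _ := by rw [← e1]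
    have h3 := hf _ (A.mul_mem m.2 (A.inv_mem k.2)) h2
    apply Subtype.ext
    exact (mul_inv_eq_one.1 h3).symm
  have hsurj : Function.Surjective φ := Finite.surjective_of_injective hinj
  intro k hk
  obtain ⟨m, hm⟩ := hsurj ⟨k, hk⟩
  have h1 : (m : G)⁻¹ * (t * m * t⁻¹) = k := congrArg Subtype.val hm
  rw [← h1, hti]
  have e1 : t * ((m : G)⁻¹ * (t * m * t)) * t = t * (m : G)⁻¹ * t * m * (t * t) := by group
  rw [e1, htt, mul_one]
  have e2 : ((m : G)⁻¹ * (t * m * t))⁻¹ = t⁻¹ * (m : G)⁻¹ * t⁻¹ * m := by group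
  rw [e2, hti]

variable {K H : Subgroup G} {t : G}

theorem mem_cent {y z : G} : z ∈ Subgroup.centralizer ({y} : Set G) ↔ z * y = y * z :=
  Subgroup.mem_centralizer_singleton_iff

/-- involutions are conjugate into `K` -/
theorem conjIn_of_invol (B : Cfg K H t) {y : G} (hy : orderOf y = 2) : ConjIn K y := by
  obtain ⟨h, hh⟩ := isConj_iff.1 (B.cj y hy)
  refine ⟨h⁻¹, ?_⟩
  rw [← hh]
  have : h⁻¹ * (h * t * h⁻¹) * h⁻¹⁻¹ = t := by group
  rw [this]
  exact B.tK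

theorem conjIn_conj {y g : G} (h : ConjIn K (g * y * g⁻¹)) : ConjIn K y := by
  obtain ⟨k, hk⟩ := h
  refine ⟨k * g, ?_⟩
  have : k * g * y * (k * g)⁻¹ = k * (g * y * g⁻¹) * k⁻¹ := by group
  rw [this]
  exact hk

/-- elements with a conjugate in `H` are conjugate into `K` -/
theorem conjIn_of_conj_mem_H (B : Cfg K H t) {y g : G} (h : g * y * g⁻¹ ∈ H) : ConjIn K y := by
  by_cases hK : g * y * g⁻¹ ∈ K
  · exact ⟨g, hK⟩
  · exact conjIn_conj (conjIn_of_invol B (B.invol _ h hK))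

theorem conjIn_one : ConjIn K (1 : G) := ⟨1, by simp⟩

theorem sr_no_invol (B : Cfg K H t) {y : G} (hy : ¬ ConjIn K y) :
    ∀ z ∈ Subgroup.centralizer ({y} : Set G), orderOf z ≠ 2 := by
  intro z hz h2
  apply hy
  obtain ⟨g, hg⟩ := isConj_iff.1 (B.cj z h2)
  have hzy := mem_cent.1 hz
  apply conjIn_of_conj_mem_H B (g := g⁻¹)
  rw [← B.cent, mem_cent]
  have e1 : g⁻¹ * y * g⁻¹⁻¹ * t = g⁻¹ * (y * (g * t * g⁻¹)) * g := by group
  have e2 : t * (g⁻¹ * y * g⁻¹⁻¹) = g⁻¹ * ((g * t * g⁻¹) * y) * g := by group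
  rw [e1, e2, hg, hzy]

theorem sr_cent_out (B : Cfg K H t) {y : G} (hy : ¬ ConjIn K y) :
    ∀ z ∈ Subgroup.centralizer ({y} : Set G), z ≠ 1 → ¬ ConjIn K z := by
  rintro z hz h1 ⟨g, hg⟩
  apply hy
  have hzy := mem_cent.1 hz
  apply conjIn_of_conj_mem_H B (g := g)
  apply B.ti (g * z * g⁻¹) hg
  · intro h
    apply h1
    calc z = g⁻¹ * (g * z * g⁻¹) * g := by group
      _ = 1 := by rw [h]; group
  · have : g * y * g⁻¹ * (g * z * g⁻¹) * (g * y * g⁻¹)⁻¹ = g * (y * z) * y⁻¹ * g⁻¹ := by group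
    rw [this, ← hzy]
    have : g * (z * y) * y⁻¹ * g⁻¹ = g * z * g⁻¹ := by group
    rw [this]
    exact hg

theorem sr_odd [Finite G] (B : Cfg K H t) {y : G} (hy : ¬ ConjIn K y) :
    Odd (Nat.card (Subgroup.centralizer ({y} : Set G))) := by
  by_contra hodd
  rw [Nat.not_odd_iff_even] at hodd
  obtain ⟨x, hx⟩ := exists_prime_orderOf_dvd_card' (G := Subgroup.centralizer ({y} : Set G)) 2
    hodd.two_dvd
  apply sr_no_invol B hy x x.2
  rw [Subgroup.orderOf_coe, hx]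

theorem sr_inverts [Finite G] (B : Cfg K H t) {y u : G} (hy : ¬ ConjIn K y) (hu : orderOf u = 2)
    (huy : u * y * u⁻¹ = y⁻¹) : ∀ a ∈ Subgroup.centralizer ({y} : Set G), u * a * u⁻¹ = a⁻¹ := by
  apply fpf_inverts _ (sq_of_order_two hu)
  · intro k hk
    have hk' := mem_cent.1 hk
    rw [mem_cent]
    have hy' : y = u * y⁻¹ * u⁻¹ := by
      calc y = (y⁻¹)⁻¹ := (inv_inv y).symm
        _ = (u * y * u⁻¹)⁻¹ := by rw [huy]
        _ = u * y⁻¹ * u⁻¹ := by group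
    have e0 : k * y⁻¹ = y⁻¹ * k := by
      calc k * y⁻¹ = y⁻¹ * (y * k) * y⁻¹ := by group
        _ = y⁻¹ * (k * y) * y⁻¹ := by rw [hk']
        _ = y⁻¹ * k := by group
    calc u * k * u⁻¹ * y = u * k * u⁻¹ * (u * y⁻¹ * u⁻¹) := by rw [← hy']
      _ = u * (k * y⁻¹) * u⁻¹ := by group
      _ = u * (y⁻¹ * k) * u⁻¹ := by rw [e0]
      _ = (u * y⁻¹ * u⁻¹) * (u * k * u⁻¹) := by group
      _ = y * (u * k * u⁻¹) := by rw [← hy']
  · intro k hk huk
    by_contra h1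
    exact sr_no_invol B (sr_cent_out B hy k hk h1) u (mem_cent.2 huk) hu

/-- the centraliser of a strongly real element outside the conjugates of `K` is abelian -/
theorem sr_comm [Finite G] (B : Cfg K H t) {y : G} (hy : ¬ ConjIn K y) (hs : SReal y) :
    ∀ a ∈ Subgroup.centralizer ({y} : Set G), ∀ b ∈ Subgroup.centralizer ({y} : Set G),
      a * b = b * a := by
  obtain ⟨u, hu, huy⟩ := hs
  have hinv := sr_inverts B hy hu huy
  intro a ha b hb
  have h1 := hinv a ha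
  have h2 := hinv b hb
  have h3 := hinv (a * b) (Subgroup.mul_mem _ ha hb)
  have h4 : u * (a * b) * u⁻¹ = (u * a * u⁻¹) * (u * b * u⁻¹) := by group
  rw [h4, h1, h2] at h3
  have h5 : (a⁻¹ * b⁻¹)⁻¹ = ((a * b)⁻¹)⁻¹ := by rw [h3]
  rw [inv_inv, mul_inv_rev, inv_inv, inv_inv] at h5
  exact h5.symm

theorem sr_cent_eq [Finite G] (B : Cfg K H t) {y : G} (hy : ¬ ConjIn K y) (hs : SReal y) :
    ∀ z ∈ Subgroup.centralizer ({y} : Set G), z ≠ 1 →
      Subgroup.centralizer ({z} : Set G) = Subgroup.centralizer ({y} : Set G) := by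
  intro z hz h1
  have hzK := sr_cent_out B hy z hz h1
  have hsz : SReal z := by
    obtain ⟨u, hu, huy⟩ := hs
    exact ⟨u, hu, sr_inverts B hy hu huy z hz⟩
  have hyz : y ∈ Subgroup.centralizer ({z} : Set G) := mem_cent.2 (mem_cent.1 hz).symm
  have hyy : y ∈ Subgroup.centralizer ({y} : Set G) := mem_cent.2 rfl
  have hzz : z ∈ Subgroup.centralizer ({z} : Set G) := mem_cent.2 rfl
  apply le_antisymm
  · intro a ha
    exact mem_cent.2 (sr_comm B hzK hsz a ha y hyz)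
  · intro a ha
    exact mem_cent.2 (sr_comm B hy hs a ha z hz)

/-- the pairs counted by `aCount` -/
theorem aCount_iff (B : Cfg K H t) {y u : G} (hy : ¬ ConjIn K y) :
    (orderOf u = 2 ∧ orderOf (u⁻¹ * y) = 2) ↔ (orderOf u = 2 ∧ u * y * u⁻¹ = y⁻¹) := by
  constructor
  · rintro ⟨hu, h2⟩
    refine ⟨hu, ?_⟩
    have h3 := sq_of_order_two h2
    rw [inv_of_order_two hu] at h3 ⊢
    calc u * y * u = (u * y * (u * y)) * y⁻¹ := by group
      _ = y⁻¹ := by rw [h3, one_mul]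
  · rintro ⟨hu, h2⟩
    refine ⟨hu, ?_⟩
    apply order_two_of
    · intro h
      apply hy
      have : y = u := by
        calc y = u * (u⁻¹ * y) := by group
          _ = u := by rw [h, mul_one]
      rw [this]
      exact conjIn_of_invol B hu
    · have hi := inv_of_order_two hu
      have : u⁻¹ * y * (u⁻¹ * y) = u⁻¹ * y * u⁻¹ * y := by group
      rw [this]
      nth_rewrite 1 [hi]
      rw [h2]
      group

theorem sr_aCount [Finite G] (B : Cfg K H t) {y : G} (hy : ¬ ConjIn K y) (hs : SReal y) :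
    aCount y = Nat.card (Subgroup.centralizer ({y} : Set G)) := by
  obtain ⟨u0, hu0, hu0y⟩ := hs
  have hinv := sr_inverts B hy hu0 hu0y
  unfold aCount
  symm
  refine Nat.card_congr (Equiv.ofBijective
    (fun a : Subgroup.centralizer ({y} : Set G) =>
      (⟨u0 * a, (aCount_iff B hy).2 ⟨?_, ?_⟩⟩ : {u : G // orderOf u = 2 ∧ orderOf (u⁻¹ * y) = 2}))
    ⟨?_, ?_⟩)
  · apply order_two_of
    · intro h
      apply sr_no_invol B hy (a : G)⁻¹ (Subgroup.inv_mem _ a.2)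
      have : (a : G)⁻¹ = u0 := by
        calc (a : G)⁻¹ = (u0 * a) * (a : G)⁻¹ := by rw [h, one_mul]
          _ = u0 := by group
      rw [this, hu0]
    · have h1 := hinv a a.2
      rw [inv_of_order_two hu0] at h1
      calc u0 * (a : G) * (u0 * a) = (u0 * a * u0) * a := by group
        _ = 1 := by rw [h1]; group
  · have ha := mem_cent.1 a.2
    calc u0 * (a : G) * y * (u0 * a)⁻¹ = u0 * ((a : G) * y) * (a : G)⁻¹ * u0⁻¹ := by group
      _ = u0 * (y * (a : G)) * (a : G)⁻¹ * u0⁻¹ := by rw [ha]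
      _ = u0 * y * u0⁻¹ := by group
      _ = y⁻¹ := hu0y
  · intro a b hab
    have h1 : u0 * (a : G) = u0 * b := congrArg Subtype.val hab
    exact Subtype.ext (mul_left_cancel h1)
  · rintro ⟨u, hu⟩
    obtain ⟨hu2, huy⟩ := (aCount_iff B hy).1 hu
    refine ⟨⟨u0⁻¹ * u, ?_⟩, ?_⟩
    · rw [mem_cent]
      have e1 : u * y = y⁻¹ * u := by
        calc u * y = (u * y * u⁻¹) * u := by group
          _ = y⁻¹ * u := by rw [huy]
      have e2 : u0⁻¹ * y⁻¹ = y * u0⁻¹ := by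
        calc u0⁻¹ * y⁻¹ = u0⁻¹ * (u0 * y * u0⁻¹) := by rw [hu0y]
          _ = y * u0⁻¹ := by group
      calc u0⁻¹ * u * y = u0⁻¹ * (u * y) := by group
        _ = u0⁻¹ * (y⁻¹ * u) := by rw [e1]
        _ = (u0⁻¹ * y⁻¹) * u := by group
        _ = y * u0⁻¹ * u := by rw [e2]
        _ = y * (u0⁻¹ * u) := by group
    · apply Subtype.ext
      show u0 * (u0⁻¹ * u) = u
      group

theorem sr_aCount_zero (B : Cfg K H t) {y : G} (hy : ¬ ConjIn K y) (hs : ¬ SReal y) :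
    aCount y = 0 := by
  unfold aCount
  have : IsEmpty {u : G // orderOf u = 2 ∧ orderOf (u⁻¹ * y) = 2} := by
    constructor
    rintro ⟨u, hu⟩
    obtain ⟨hu2, huy⟩ := (aCount_iff B hy).1 hu
    exact hs ⟨u, hu2, huy⟩
  exact Nat.card_of_isEmpty

theorem sr_conj_t (B : Cfg K H t) {y : G} (hs : SReal y) :
    ∃ g : G, t * (g * y * g⁻¹) * t⁻¹ = (g * y * g⁻¹)⁻¹ := by
  obtain ⟨u, hu, huy⟩ := hs
  obtain ⟨h, hh⟩ := isConj_iff.1 (B.cj u hu)
  refine ⟨h⁻¹, ?_⟩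
  calc t * (h⁻¹ * y * h⁻¹⁻¹) * t⁻¹ = h⁻¹ * ((h * t * h⁻¹) * y * (h * t * h⁻¹)⁻¹) * h := by group
    _ = h⁻¹ * y⁻¹ * h := by rw [hh, huy]
    _ = (h⁻¹ * y * h⁻¹⁻¹)⁻¹ := by group

theorem sr_of_real [Finite G] (B : Cfg K H t) {y g : G} (hy : ¬ ConjIn K y)
    (hg : g * y * g⁻¹ = y⁻¹) : SReal y := by
  have hn : orderOf g ≠ 0 := (orderOf_pos g).ne'
  obtain ⟨k, m, hm, hkm⟩ := Nat.exists_eq_two_pow_mul_odd hn
  obtain ⟨j, rfl⟩ := hm
  -- `g ^ 2` centralises `y`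
  have h2 : g ^ 2 * y = y * g ^ 2 := by
    have e1 : g * y = y⁻¹ * g := by
      calc g * y = (g * y * g⁻¹) * g := by group
        _ = y⁻¹ * g := by rw [hg]
    have e2 : g * y⁻¹ = y * g := by
      have : g * y⁻¹ * g⁻¹ = y := by
        calc g * y⁻¹ * g⁻¹ = (g * y * g⁻¹)⁻¹ := by group
          _ = y := by rw [hg, inv_inv]
      calc g * y⁻¹ = (g * y⁻¹ * g⁻¹) * g := by group
        _ = y * g := by rw [this]
    calc g ^ 2 * y = g * (g * y) := by rw [pow_two, mul_assoc]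
      _ = g * (y⁻¹ * g) := by rw [e1]
      _ = (g * y⁻¹) * g := by group
      _ = y * g * g := by rw [e2]
      _ = y * g ^ 2 := by rw [pow_two, mul_assoc]
  have h2mem : g ^ 2 ∈ Subgroup.centralizer ({y} : Set G) := mem_cent.2 h2
  have hjmem : (g ^ 2) ^ j ∈ Subgroup.centralizer ({y} : Set G) := Subgroup.pow_mem _ h2mem j
  set g' := g ^ (2 * j + 1) with hg'
  have hg'e : g' = (g ^ 2) ^ j * g := by rw [hg', pow_succ, pow_mul]
  have hinv : g' * y * g'⁻¹ = y⁻¹ := by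
    have hj := mem_cent.1 (Subgroup.inv_mem _ hjmem)
    have hj' := mem_cent.1 hjmem
    have e3 : (g ^ 2) ^ j * y⁻¹ = y⁻¹ * (g ^ 2) ^ j := by
      calc (g ^ 2) ^ j * y⁻¹ = y⁻¹ * (y * (g ^ 2) ^ j) * y⁻¹ := by group
        _ = y⁻¹ * ((g ^ 2) ^ j * y) * y⁻¹ := by rw [hj']
        _ = y⁻¹ * (g ^ 2) ^ j := by group
    calc g' * y * g'⁻¹ = (g ^ 2) ^ j * (g * y * g⁻¹) * ((g ^ 2) ^ j)⁻¹ := by rw [hg'e]; group
      _ = (g ^ 2) ^ j * y⁻¹ * ((g ^ 2) ^ j)⁻¹ := by rw [hg]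
      _ = y⁻¹ * (g ^ 2) ^ j * ((g ^ 2) ^ j)⁻¹ := by rw [e3]
      _ = y⁻¹ := by group
  have hsqmem : g' * g' ∈ Subgroup.centralizer ({y} : Set G) := by
    have : g' * g' = (g ^ 2) ^ (2 * j + 1) := by
      rw [hg', ← pow_mul, ← pow_add]; congr 1; ring
    rw [this]
    exact Subgroup.pow_mem _ h2mem _
  have hpow : g' ^ (2 ^ k) = 1 := by
    rw [hg', ← pow_mul, mul_comm, ← hkm]
    exact pow_orderOf_eq_one g
  have hsq : g' * g' = 1 := by
    have h3 : orderOf (g' * g') ∣ 2 ^ k := by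
      apply orderOf_dvd_of_pow_eq_one
      rw [← pow_two, ← pow_mul, mul_comm, pow_mul, hpow, one_pow]
    have h4 : orderOf (g' * g') ∣ Nat.card (Subgroup.centralizer ({y} : Set G)) :=
      Subgroup.orderOf_dvd_natCard _ hsqmem
    have h5 : Nat.Coprime (2 ^ k) (Nat.card (Subgroup.centralizer ({y} : Set G))) :=
      Nat.Coprime.pow_left k (Nat.coprime_two_left.2 (sr_odd B hy))
    have h6 := Nat.eq_one_of_dvd_coprimes h5 h3 h4
    exact orderOf_eq_one_iff.1 h6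
  refine ⟨g', order_two_of ?_ hsq, hinv⟩
  intro h1
  rw [h1] at hinv
  apply hy
  have hyy : y * y = 1 := by
    have : y = y⁻¹ := by simpa using hinv
    calc y * y = y * y⁻¹ := by rw [← this]
      _ = 1 := by group
  by_cases hy1 : y = 1
  · rw [hy1]; exact conjIn_one
  · exact conjIn_of_invol B (order_two_of hy1 hyy)

end Cfsg.Agent.Lib.Helper91.BSW
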