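import Mathlib
import Cfsg.Agent.Lib.Helper73.BSW.Defs
import Cfsg.Agent.Lib.Helper91.BSWSra

/-!
# Brauer–Suzuki–Wall ladder, rung SRB: the normaliser of `C(y)` for `y` strongly real, not
conjugate into `K`
-/

set_option autoImplicit false

namespace Cfsg.Agent.Lib.Helper91.BSW

open Cfsg.Agent.Lib.Helper73.BSW

variable {G : Type*} [Group G] [Finite G] {K H : Subgroup G} {t : G}

/-- every element of a group of odd order is a square -/
theorem exists_sq_of_odd (A : Subgroup G) (hA : Odd (Nat.card A)) {a : G} (ha : a ∈ A) :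
    ∃ b ∈ A, b * b = a := by
  obtain ⟨j, hj⟩ := hA
  refine ⟨a ^ (j + 1), A.pow_mem ha _, ?_⟩
  have h1 : a ^ (2 * j + 1) = 1 := by
    rw [← hj]
    have := pow_card_eq_one' (G := A) (x := ⟨a, ha⟩)
    exact congrArg Subtype.val this
  calc a ^ (j + 1) * a ^ (j + 1) = a ^ (2 * j + 1) * a := by
        rw [← pow_add, ← pow_succ]; congr 1; ring
    _ = a := by rw [h1, one_mul]

/-- an involution normalising `C(y)` inverts it -/
theorem sr_invol_inverts (B : Cfg K H t) {y x : G} (hy : ¬ ConjIn K y) (hx : orderOf x = 2)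
    (hxN : ∀ a ∈ Subgroup.centralizer ({y} : Set G), x * a * x⁻¹ ∈ Subgroup.centralizer ({y} : Set G)) :
    ∀ a ∈ Subgroup.centralizer ({y} : Set G), x * a * x⁻¹ = a⁻¹ := by
  apply fpf_inverts _ (sq_of_order_two hx) hxN
  intro k hk hxk
  by_contra h1
  exact sr_no_invol B (sr_cent_out B hy k hk h1) x (mem_cent.2 hxk) hx

theorem mem_normalizer_conj {A : Subgroup G} {g : G} (hg : g ∈ Subgroup.normalizer (A : Set G))
    {a : G} (ha : a ∈ A) : g * a * g⁻¹ ∈ A := (Subgroup.mem_normalizer_iff.1 hg a).1 ha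

theorem mem_normalizer_conj' {A : Subgroup G} {g : G} (hg : g ∈ Subgroup.normalizer (A : Set G))
    {a : G} (ha : a ∈ A) : g⁻¹ * a * g ∈ A := (Subgroup.mem_normalizer_iff''.1 hg a).1 ha

/-- the decomposition of the normaliser of `C(y)` -/
theorem sr_decomp (B : Cfg K H t) {y : G} (hy : ¬ ConjIn K y) (hty : t * y * t⁻¹ = y⁻¹) {g : G}
    (hg : g ∈ Subgroup.normalizer ((Subgroup.centralizer ({y} : Set G) : Subgroup G) : Set G)) :
    ∃ a ∈ Subgroup.centralizer ({y} : Set G),
      ∃ e ∈ Subgroup.normalizer ((Subgroup.centralizer ({y} : Set G) : Subgroup G) : Set G) ⊓ K,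
        g = a * e := by
  set A := Subgroup.centralizer ({y} : Set G) with hA
  have hs : SReal y := ⟨t, B.ot, hty⟩
  have htinv := sr_inverts B hy B.ot hty
  have hcomm := sr_comm B hy hs
  have hti := inv_of_order_two B.ot
  have hyA : y ∈ A := mem_cent.2 rfl
  -- `s = g t g⁻¹` inverts `A`
  have hsinv : ∀ a ∈ A, (g * t * g⁻¹) * a * (g * t * g⁻¹)⁻¹ = a⁻¹ := by
    intro a ha
    have h1 := htinv _ (mem_normalizer_conj' hg ha)
    calc (g * t * g⁻¹) * a * (g * t * g⁻¹)⁻¹ = g * (t * (g⁻¹ * a * g) * t⁻¹) * g⁻¹ := by group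
      _ = g * (g⁻¹ * a * g)⁻¹ * g⁻¹ := by rw [h1]
      _ = a⁻¹ := by group
  have ha0 : t * (g * t * g⁻¹) ∈ A := by
    rw [hA, mem_cent]
    have h1 := hsinv y hyA
    have e1 : (g * t * g⁻¹) * y = y⁻¹ * (g * t * g⁻¹) := by
      calc (g * t * g⁻¹) * y = ((g * t * g⁻¹) * y * (g * t * g⁻¹)⁻¹) * (g * t * g⁻¹) := by group
        _ = y⁻¹ * (g * t * g⁻¹) := by rw [h1]
    have e2 : t * y⁻¹ = y * t := by
      have : t * y⁻¹ * t⁻¹ = y := by
        calc t * y⁻¹ * t⁻¹ = (t * y * t⁻¹)⁻¹ := by group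
          _ = y := by rw [hty, inv_inv]
      calc t * y⁻¹ = (t * y⁻¹ * t⁻¹) * t := by group
        _ = y * t := by rw [this]
    calc t * (g * t * g⁻¹) * y = t * ((g * t * g⁻¹) * y) := by group
      _ = t * (y⁻¹ * (g * t * g⁻¹)) := by rw [e1]
      _ = (t * y⁻¹) * (g * t * g⁻¹) := by group
      _ = y * t * (g * t * g⁻¹) := by rw [e2]
      _ = y * (t * (g * t * g⁻¹)) := by group
  obtain ⟨b, hb, hbb⟩ := exists_sq_of_odd A (sr_odd B hy) ha0
  have hbN : b ∈ Subgroup.normalizer (A : Set G) := Subgroup.le_normalizer hb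
  have hbgN : b * g ∈ Subgroup.normalizer (A : Set G) := Subgroup.mul_mem _ hbN hg
  -- `b g` centralises `t`
  have hbgt : (b * g) * t * (b * g)⁻¹ = t := by
    have h1 : g * t * g⁻¹ = t * (b * b) := by
      rw [hbb]
      calc g * t * g⁻¹ = (t * t) * (g * t * g⁻¹) := by rw [sq_of_order_two B.ot, one_mul]
        _ = t * (t * (g * t * g⁻¹)) := by group
    have h2 : b * t = t * b⁻¹ := by
      have := htinv b hb
      calc b * t = t * (t * b * t⁻¹) * (t * t) := by rw [hti]; 
                                                     have := sq_of_order_two B.ot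
                                                     calc b * t = (t * t) * b * t := by rw [this, one_mul]
                                                       _ = (t * t) * b * t * (t * t) := by rw [this, mul_one]
                                                       _ = t * (t * b * t) * (t * t) := by group
        _ = t * b⁻¹ := by rw [this, sq_of_order_two B.ot, mul_one]
    calc (b * g) * t * (b * g)⁻¹ = b * (g * t * g⁻¹) * b⁻¹ := by group
      _ = b * (t * (b * b)) * b⁻¹ := by rw [h1]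
      _ = (b * t) * b := by group
      _ = t * b⁻¹ * b := by rw [h2]
      _ = t := by group
  have hbgH : b * g ∈ H := by
    rw [← B.cent, mem_cent]
    calc b * g * t = ((b * g) * t * (b * g)⁻¹) * (b * g) := by group
      _ = t * (b * g) := by rw [hbgt]
  have hbgK : b * g ∈ K := by
    by_contra hnK
    have hx2 := B.invol _ hbgH hnK
    have hxinv := sr_invol_inverts B hy hx2 (fun a ha => mem_normalizer_conj hbgN ha)
    have htH : t ∈ H := B.KH B.tK
    have hxtK : b * g * t ∉ K := by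
      intro h
      apply hnK
      have := K.mul_mem h (K.inv_mem B.tK)
      simpa using this
    have hxt2 := B.invol _ (H.mul_mem hbgH htH) hxtK
    apply sr_no_invol B hy (b * g * t) _ hxt2
    rw [mem_cent]
    have e1 : t * y = y⁻¹ * t := by
      calc t * y = (t * y * t⁻¹) * t := by group
        _ = y⁻¹ * t := by rw [hty]
    have e2 : (b * g) * y⁻¹ = y * (b * g) := by
      have h3 := hxinv y⁻¹ (Subgroup.inv_mem _ hyA)
      rw [inv_inv] at h3
      calc (b * g) * y⁻¹ = ((b * g) * y⁻¹ * (b * g)⁻¹) * (b * g) := by group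
        _ = y * (b * g) := by rw [h3]
    calc b * g * t * y = (b * g) * (t * y) := by group
      _ = (b * g) * (y⁻¹ * t) := by rw [e1]
      _ = ((b * g) * y⁻¹) * t := by group
      _ = y * (b * g) * t := by rw [e2]
      _ = y * (b * g * t) := by group
  exact ⟨b⁻¹, Subgroup.inv_mem _ hb, b * g, ⟨hbgN, hbgK⟩, by group⟩

theorem sr_inf_eq_bot (B : Cfg K H t) {y : G} (hy : ¬ ConjIn K y) {x : G}
    (hx : x ∈ Subgroup.centralizer ({y} : Set G)) (hxK : x ∈ K) : x = 1 := by
  by_contra h1
  exact sr_cent_out B hy x hx h1 ⟨1, by simpa using hxK⟩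

theorem sr_normalizer (B : Cfg K H t) {y : G} (hy : ¬ ConjIn K y) (hty : t * y * t⁻¹ = y⁻¹)
    (A E : Subgroup G) (hA : A = Subgroup.centralizer ({y} : Set G))
    (hE : E = Subgroup.normalizer (A : Set G) ⊓ K) :
    t ∈ E ∧ A ⊓ E = ⊥ ∧ Subgroup.normalizer (A : Set G) = A ⊔ E ∧
      Nat.card (Subgroup.normalizer (A : Set G)) = Nat.card A * Nat.card E ∧
      Nat.card E ∣ Nat.card A - 1 := by
  subst hA
  subst hE
  set A := Subgroup.centralizer ({y} : Set G) with hA
  have hs : SReal y := ⟨t, B.ot, hty⟩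
  have htinv := sr_inverts B hy B.ot hty
  have hinf : ∀ x ∈ A, x ∈ Subgroup.normalizer (A : Set G) ⊓ K → x = 1 :=
    fun x hx hxE => sr_inf_eq_bot B hy hx hxE.2
  refine ⟨⟨?_, B.tK⟩, ?_, ?_, ?_, ?_⟩
  · apply Subgroup.mem_normalizer_fintype
    intro a ha
    have := htinv a ha
    show t * a * t⁻¹ ∈ A
    rw [this]
    exact A.inv_mem ha
  · rw [eq_bot_iff]
    rintro x ⟨hx1, hx2⟩
    exact hinf x hx1 hx2
  · apply le_antisymm
    · intro g hg
      obtain ⟨a, ha, e, he, rfl⟩ := sr_decomp B hy hty hg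
      exact Subgroup.mul_mem_sup ha he
    · rw [sup_le_iff]
      exact ⟨Subgroup.le_normalizer, inf_le_left⟩
  · rw [← Nat.card_prod]
    symm
    refine Nat.card_congr (Equiv.ofBijective
      (fun p : A × (Subgroup.normalizer (A : Set G) ⊓ K : Subgroup G) =>
        (⟨(p.1 : G) * p.2, Subgroup.mul_mem _ (Subgroup.le_normalizer p.1.2) p.2.2.1⟩ :
          Subgroup.normalizer (A : Set G))) ⟨?_, ?_⟩)
    · rintro ⟨⟨a, ha⟩, ⟨e, he⟩⟩ ⟨⟨a', ha'⟩, ⟨e', he'⟩⟩ h
      have h1 : a * e = a' * e' := congrArg Subtype.val h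
      have h2 : a'⁻¹ * a = e' * e⁻¹ := by
        calc a'⁻¹ * a = a'⁻¹ * (a * e) * e⁻¹ := by group
          _ = a'⁻¹ * (a' * e') * e⁻¹ := by rw [h1]
          _ = e' * e⁻¹ := by group
      have h3 := hinf (a'⁻¹ * a) (A.mul_mem (A.inv_mem ha') ha)
        (by rw [h2]; exact Subgroup.mul_mem _ he' (Subgroup.inv_mem _ he))
      have h4 : a = a' := by
        calc a = a' * (a'⁻¹ * a) := by group
          _ = a' := by rw [h3, mul_one]
      subst h4
      have h5 : e = e' := mul_left_cancel h1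
      subst h5
      rfl
    · rintro ⟨g, hg⟩
      obtain ⟨a, ha, e, he, rfl⟩ := sr_decomp B hy hty hg
      exact ⟨⟨⟨a, ha⟩, ⟨e, he⟩⟩, rfl⟩
  · -- free action of `E` on `A \ {1}`
    have hcard : Nat.card ↥((A : Set G) \ {1}) = Nat.card A - 1 := by
      rw [Nat.card_coe_set_eq, Set.ncard_sdiff_singleton_of_mem A.one_mem]
      rfl
    rw [← hcard]
    let inst : MulAction (Subgroup.normalizer (A : Set G) ⊓ K : Subgroup G) ↥((A : Set G) \ {1}) :=
      { smul := fun e a => ⟨(e : G) * a * (e : G)⁻¹, mem_normalizer_conj e.2.1 a.2.1, by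
          intro h
          apply a.2.2
          have h' : (e : G) * a * (e : G)⁻¹ = 1 := h
          show (a : G) = 1
          calc (a : G) = (e : G)⁻¹ * ((e : G) * a * (e : G)⁻¹) * e := by group
            _ = 1 := by rw [h']; group⟩
        one_smul := fun a => Subtype.ext (by
          show ((1 : (Subgroup.normalizer (A : Set G) ⊓ K : Subgroup G)) : G) * a *
            ((1 : (Subgroup.normalizer (A : Set G) ⊓ K : Subgroup G)) : G)⁻¹ = a
          simp)
        mul_smul := fun e f a => Subtype.ext (by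
          show ((e * f : (Subgroup.normalizer (A : Set G) ⊓ K : Subgroup G)) : G) * a *
            ((e * f : (Subgroup.normalizer (A : Set G) ⊓ K : Subgroup G)) : G)⁻¹ =
              (e : G) * ((f : G) * a * (f : G)⁻¹) * (e : G)⁻¹
          rw [Subgroup.coe_mul]
          group) }
    have hfree : ∀ a : ↥((A : Set G) \ {1}),
        MulAction.stabilizer (Subgroup.normalizer (A : Set G) ⊓ K : Subgroup G) a = ⊥ := by
      intro a
      rw [eq_bot_iff]
      intro e he
      rw [MulAction.mem_stabilizer_iff] at he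
      have h1 : (e : G) * a * (e : G)⁻¹ = a := congrArg Subtype.val he
      have h2 : (e : G) ∈ Subgroup.centralizer ({(a : G)} : Set G) := by
        rw [mem_cent]
        calc (e : G) * a = ((e : G) * a * (e : G)⁻¹) * e := by group
          _ = a * e := by rw [h1]
      rw [sr_cent_eq B hy hs a a.2.1 a.2.2] at h2
      rw [Subgroup.mem_bot]
      exact Subtype.ext (hinf e h2 e.2)
    rw [Nat.card_congr (MulAction.selfEquivOrbitsQuotientProd hfree), Nat.card_prod]
    exact dvd_mul_left _ _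

theorem sr_dprop (B : Cfg K H t) {y : G} (hy : ¬ ConjIn K y) (hty : t * y * t⁻¹ = y⁻¹)
    (hE : Nat.card (Subgroup.normalizer ((Subgroup.centralizer ({y} : Set G) : Subgroup G) : Set G)
      ⊓ K : Subgroup G) = 2) : DProp (Subgroup.centralizer ({y} : Set G)) := by
  set A := Subgroup.centralizer ({y} : Set G) with hA
  have hs : SReal y := ⟨t, B.ot, hty⟩
  have htinv := sr_inverts B hy B.ot hty
  have hcomm := sr_comm B hy hs
  obtain ⟨htE, hinf, hN, -, -⟩ := sr_normalizer B hy hty A _ hA rfl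
  have hEt : Subgroup.normalizer (A : Set G) ⊓ K = Subgroup.zpowers t := by
    symm
    apply Subgroup.eq_of_le_of_card_ge
    · rw [Subgroup.zpowers_le]; exact htE
    · rw [hE, Nat.card_zpowers, B.ot]
  have hcases : ∀ e ∈ Subgroup.normalizer (A : Set G) ⊓ K, e = 1 ∨ e = t := by
    intro e he
    obtain ⟨w, _, hw⟩ := (Nat.card_eq_two_iff' (1 : (Subgroup.normalizer (A : Set G) ⊓ K :
      Subgroup G))).1 hE
    by_cases h1 : e = 1
    · left; exact h1
    · right
      have e1 := hw ⟨e, he⟩ (fun h => h1 (congrArg Subtype.val h))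
      have e2 := hw ⟨t, htE⟩ (fun h => ne_one_of_order_two B.ot (congrArg Subtype.val h))
      exact congrArg Subtype.val (e1.trans e2.symm)
  intro X hXA hX
  refine ⟨?_, t, B.ot, ?_, htinv, ?_⟩
  · obtain ⟨⟨x, hxX⟩, hx1'⟩ := Subgroup.ne_bot_iff_exists_ne_one.1 hX
    have hx1 : x ≠ 1 := fun h => hx1' (Subtype.ext h)
    apply le_antisymm
    · intro g hg
      apply Subgroup.mem_normalizer_fintype
      intro a ha
      have hgx : g * x * g⁻¹ ∈ X := mem_normalizer_conj hg hxX
      have hgx1 : g * x * g⁻¹ ≠ 1 := by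
        intro h
        apply hx1
        calc x = g⁻¹ * (g * x * g⁻¹) * g := by group
          _ = 1 := by rw [h]; group
      have h1 := sr_cent_eq B hy hs _ (hXA hgx) hgx1
      show g * a * g⁻¹ ∈ A
      rw [hA, ← h1, mem_cent]
      have h2 : a * x = x * a := hcomm a ha x (hXA hxX)
      calc g * a * g⁻¹ * (g * x * g⁻¹) = g * (a * x) * g⁻¹ := by group
        _ = g * (x * a) * g⁻¹ := by rw [h2]
        _ = g * x * g⁻¹ * (g * a * g⁻¹) := by group
    · intro g hg
      obtain ⟨a, ha, e, he, rfl⟩ := sr_decomp B hy hty hg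
      apply Subgroup.mem_normalizer_fintype
      intro x' hx'
      show a * e * x' * (a * e)⁻¹ ∈ X
      rcases hcases e he with h | h
      · rw [h]
        have h2 : a * x' = x' * a := hcomm a ha x' (hXA hx')
        have : a * 1 * x' * (a * 1)⁻¹ = x' := by
          calc a * 1 * x' * (a * 1)⁻¹ = (a * x') * a⁻¹ := by group
            _ = x' * a * a⁻¹ := by rw [h2]
            _ = x' := by group
        rw [this]; exact hx'
      · rw [h]
        have h2 : a * x'⁻¹ = x'⁻¹ * a := hcomm a ha x'⁻¹ (A.inv_mem (hXA hx'))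
        have h3 := htinv x' (hXA hx')
        have : a * t * x' * (a * t)⁻¹ = x'⁻¹ := by
          calc a * t * x' * (a * t)⁻¹ = a * (t * x' * t⁻¹) * a⁻¹ := by group
            _ = (a * x'⁻¹) * a⁻¹ := by rw [h3]
            _ = x'⁻¹ * a * a⁻¹ := by rw [h2]
            _ = x'⁻¹ := by group
        rw [this]; exact X.inv_mem hx'
  · intro h
    exact sr_no_invol B hy t h B.ot
  · rw [hN, hEt]

end Cfsg.Agent.Lib.Helper91.BSW
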