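import Mathlib
import Cfsg.Agent.Lib.Helper73.BSW.Defs
import Cfsg.Agent.Lib.Helper91.BSWSrb

/-!
# Brauer–Suzuki–Wall ladder, rung OF: the configuration from the hypotheses of the theorem
-/

set_option autoImplicit false

namespace Cfsg.Agent.Lib.Helper91.BSW

open Cfsg.Agent.Lib.Helper73.BSW

theorem cfg_of_hyp {G : Type*} [Group G] [Finite G] (t : G) (ht : orderOf t = 2) (K : Subgroup G)
    (hKab : IsMulCommutative ↥K) (hKH : K ≤ Subgroup.centralizer ({t} : Set G)) (htK : t ∈ K)
    (s : G) (hs : orderOf s = 2) (hsH : s ∈ Subgroup.centralizer ({t} : Set G)) (hsK : s ∉ K)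
    (hH : K ⊔ Subgroup.zpowers s = Subgroup.centralizer ({t} : Set G))
    (hCK : K ⊓ Subgroup.centralizer ({s} : Set G) = Subgroup.zpowers t)
    (hinv : ∀ x ∈ K, s * x * s⁻¹ = x⁻¹)
    (hTI : ∀ g : G, g ∉ Subgroup.centralizer ({t} : Set G) →
      K ⊓ K.map (MulAut.conj g).toMonoidHom = ⊥)
    (hconj : ∀ x y : G, orderOf x = 2 → orderOf y = 2 → IsConj x y) :
    Cfg K (Subgroup.centralizer ({t} : Set G)) t := by
  have hsi := inv_of_order_two hs
  have hss := sq_of_order_two hs
  have hcomm : ∀ a ∈ K, ∀ b ∈ K, a * b = b * a := by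
    intro a ha b hb
    exact congrArg Subtype.val (hKab.is_comm.comm ⟨a, ha⟩ ⟨b, hb⟩)
  have hinv' : ∀ x ∈ K, s * x * s = x⁻¹ := by
    intro x hx
    have := hinv x hx
    rwa [hsi] at this
  -- products of two elements of `K s`
  have hmul : ∀ x y : G, x * s ∈ K → y * s ∈ K → x * y ∈ K := by
    intro x y hx hy
    have h1 := hinv' _ hy
    have : x * y = (x * s) * (s * (y * s) * s) := by
      calc x * y = x * (s * s) * y * (s * s) := by rw [hss]; group
        _ = (x * s) * (s * (y * s) * s) := by group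
    rw [this, h1]
    exact K.mul_mem hx (K.inv_mem hy)
  let L : Subgroup G :=
    { carrier := {x | x ∈ K ∨ x * s ∈ K}
      one_mem' := Or.inl K.one_mem
      mul_mem' := by
        rintro x y (hx | hx) (hy | hy)
        · exact Or.inl (K.mul_mem hx hy)
        · right
          have : x * y * s = x * (y * s) := by group
          rw [this]; exact K.mul_mem hx hy
        · right
          have h1 := hinv' _ hy
          have : x * y * s = (x * s) * (s * y * s) := by
            calc x * y * s = x * (s * s) * y * s := by rw [hss]; group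
              _ = (x * s) * (s * y * s) := by group
          rw [this, h1]
          exact K.mul_mem hx (K.inv_mem hy)
        · exact Or.inl (hmul x y hx hy)
      inv_mem' := by
        rintro x (hx | hx)
        · exact Or.inl (K.inv_mem hx)
        · right
          have h1 := hinv' _ (K.inv_mem hx)
          rw [inv_inv] at h1
          have : x⁻¹ * s = s * (x * s)⁻¹ * s := by
            calc x⁻¹ * s = (s * s) * x⁻¹ * s := by rw [hss, one_mul]
              _ = s * (s⁻¹)⁻¹ * x⁻¹ * s := by group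
              _ = s * (x * s)⁻¹ * s := by rw [hsi]; group
          rw [this, h1]
          exact hx }
  have hcase : ∀ x ∈ Subgroup.centralizer ({t} : Set G), x ∈ K ∨ x * s ∈ K := by
    intro x hx
    rw [← hH] at hx
    have hle : K ⊔ Subgroup.zpowers s ≤ L := by
      rw [sup_le_iff, Subgroup.zpowers_le]
      refine ⟨fun k hk => Or.inl hk, Or.inr ?_⟩
      rw [hss]; exact K.one_mem
    exact hle hx
  have hout : ∀ x ∈ Subgroup.centralizer ({t} : Set G), x ∉ K → x * s ∈ K :=
    fun x hx hxK => (hcase x hx).resolve_left hxK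
  refine ⟨ht, htK, hcomm, hKH, rfl, ⟨s, hsH, hsK⟩, ?_, ?_, ?_, ?_, ?_, fun u hu => hconj t u ht hu⟩
  · intro x hx hxK y hy hyK
    exact hmul x y (hout x hx hxK) (hout y hy hyK)
  · intro x hx hxK
    apply order_two_of
    · rintro rfl
      exact hxK K.one_mem
    · have hk := hout x hx hxK
      have h1 := hinv' _ hk
      calc x * x = (x * s) * (s * (x * s) * s) := by
            calc x * x = x * (s * s) * x * (s * s) := by rw [hss]; group
              _ = (x * s) * (s * (x * s) * s) := by group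
        _ = 1 := by rw [h1]; group
  · intro x hx hxK c hc
    have hk := hout x hx hxK
    have h1 := hinv c hc
    have h2 := hcomm _ hk c⁻¹ (K.inv_mem hc)
    calc x * c * x⁻¹ = (x * s) * (s⁻¹ * c * s) * (x * s)⁻¹ := by group
      _ = (x * s) * (s * c * s⁻¹) * (x * s)⁻¹ := by rw [hsi]
      _ = ((x * s) * c⁻¹) * (x * s)⁻¹ := by rw [h1]
      _ = c⁻¹ * (x * s) * (x * s)⁻¹ := by rw [h2]
      _ = c⁻¹ := by group
  · intro c hc hc2
    have h1 := hinv c hc
    rw [inv_of_order_two hc2] at h1
    have h2 : c ∈ K ⊓ Subgroup.centralizer ({s} : Set G) := by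
      refine ⟨hc, ?_⟩
      show c ∈ Subgroup.centralizer ({s} : Set G)
      rw [mem_cent]
      calc c * s = (s * c * s⁻¹) * s := by rw [h1]
        _ = s * c := by group
    rw [hCK] at h2
    obtain ⟨n, hn⟩ := Subgroup.mem_zpowers_iff.1 h2
    have htt : t ^ (2 : ℤ) = 1 := by
      have := sq_of_order_two ht
      rw [zpow_two]; exact this
    rcases Int.even_or_odd' n with ⟨m, rfl | rfl⟩
    · exfalso
      rw [zpow_mul, htt, one_zpow] at hn
      exact ne_one_of_order_two hc2 hn.symm
    · rw [zpow_add, zpow_mul, htt, one_zpow, one_mul, zpow_one] at hn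
      exact hn.symm
  · intro c hc hc1 g hg
    by_contra hgH
    have h1 := hTI g hgH
    have h2 : g * c * g⁻¹ ∈ K ⊓ K.map (MulAut.conj g).toMonoidHom := ⟨hg, ⟨c, hc, rfl⟩⟩
    rw [h1, Subgroup.mem_bot] at h2
    apply hc1
    calc c = g⁻¹ * (g * c * g⁻¹) * g := by group
      _ = 1 := by rw [h2]; group

variable {G : Type*} [Group G] [Finite G] {K H : Subgroup G} {t : G}

theorem card_H (B : Cfg K H t) : Nat.card H = 2 * Nat.card K := by
  obtain ⟨s, hsH, hsK⟩ := B.ex
  have h2 : K.relIndex H = 2 := by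
    rw [Subgroup.relIndex_eq_two_iff]
    refine ⟨s, hsH, fun b hb => ?_⟩
    by_cases hbK : b ∈ K
    · right
      refine ⟨hbK, fun h => hsK ?_⟩
      have := K.mul_mem (K.inv_mem hbK) h
      simpa using this
    · left
      exact ⟨B.mulK b hb hbK s hsH hsK, hbK⟩
  have h3 := Subgroup.relIndex_mul_relIndex (⊥ : Subgroup G) K H bot_le B.KH
  rw [h2, Subgroup.relIndex_bot_left, Subgroup.relIndex_bot_left] at h3
  omega

theorem even_card_K (B : Cfg K H t) : Even (Nat.card K) := by
  have := Subgroup.orderOf_dvd_natCard K B.tK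
  rw [B.ot] at this
  exact even_iff_two_dvd.2 this

theorem normalizer_eq_H (B : Cfg K H t) (X : Subgroup G) (hX : X ≤ K) (hX1 : X ≠ ⊥) :
    Subgroup.normalizer (X : Set G) = H := by
  obtain ⟨⟨x, hxX⟩, hx1'⟩ := Subgroup.ne_bot_iff_exists_ne_one.1 hX1
  have hx1 : x ≠ 1 := fun h => hx1' (Subtype.ext h)
  apply le_antisymm
  · intro g hg
    exact B.ti x (hX hxX) hx1 g (hX (mem_normalizer_conj hg hxX))
  · intro h hh
    apply Subgroup.mem_normalizer_fintype
    intro a ha
    show h * a * h⁻¹ ∈ X
    by_cases hK : h ∈ K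
    · have := B.comm h hK a (hX ha)
      have e : h * a * h⁻¹ = a := by rw [this]; group
      rw [e]; exact ha
    · rw [B.inv h hh hK a (hX ha)]
      exact X.inv_mem ha

theorem kprop (B : Cfg K H t) : DProp K ∧ Subgroup.normalizer (K : Set G) = H := by
  have hK1 : K ≠ ⊥ := by
    intro h
    have := B.tK
    rw [h, Subgroup.mem_bot] at this
    exact ne_one_of_order_two B.ot this
  have hNK := normalizer_eq_H B K le_rfl hK1
  refine ⟨?_, hNK⟩
  intro X hX hX1
  obtain ⟨s, hsH, hsK⟩ := B.ex
  refine ⟨by rw [hNK]; exact normalizer_eq_H B X hX hX1, s, B.invol s hsH hsK, hsK,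
    B.inv s hsH hsK, ?_⟩
  rw [hNK]
  apply le_antisymm
  · intro h hh
    by_cases hK : h ∈ K
    · exact Subgroup.mem_sup_left hK
    · have h1 := B.mulK h hh hK s hsH hsK
      have : h = (h * s) * s⁻¹ := by group
      rw [this]
      exact Subgroup.mul_mem_sup h1 (Subgroup.inv_mem _ (Subgroup.mem_zpowers s))
  · rw [sup_le_iff, Subgroup.zpowers_le]
    exact ⟨B.KH, hsH⟩

end Cfsg.Agent.Lib.Helper91.BSW
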