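import Mathlib
import Cfsg.Agent.Lib.Helper73.BSW.Defs
import Cfsg.Agent.Lib.Helper73.BSW.Defs2
import Cfsg.Agent.Lib.Helper4.BSWTicount
import Cfsg.Agent.Lib.Helper36.BSWBurn
import Cfsg.Agent.Lib.Helper36.BSWMaxint
import Cfsg.Agent.Lib.Helper91.BSWSra
import Cfsg.Agent.Lib.Helper91.BSWOf

/-!
# Brauer–Suzuki–Wall ladder, rung MH: the end of the case `δ = -1`
-/

set_option autoImplicit false

namespace Cfsg.Agent.Lib.Helper91.BSW

open Cfsg Cfsg.Agent.Lib.Helper73.BSW

universe u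

variable {G : Type u} [Group G] {K H : Subgroup G} {t : G}

theorem orderOf_conj_eq (g u : G) : orderOf (g * u * g⁻¹) = orderOf u := by
  rw [← MulAut.conj_apply]
  exact MulEquiv.orderOf_eq _ _

theorem conjIn_conj_iff (g y : G) : ConjIn K (g * y * g⁻¹) ↔ ConjIn K y := by
  constructor
  · exact conjIn_conj
  · rintro ⟨h, hh⟩
    refine ⟨h * g⁻¹, ?_⟩
    have : h * g⁻¹ * (g * y * g⁻¹) * (h * g⁻¹)⁻¹ = h * y * h⁻¹ := by group
    rwa [this]

theorem sReal_conj_of (g y : G) (h : SReal y) : SReal (g * y * g⁻¹) := by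
  obtain ⟨u, hu, huy⟩ := h
  refine ⟨g * u * g⁻¹, by rw [orderOf_conj_eq, hu], ?_⟩
  have e1 : g * u * g⁻¹ * (g * y * g⁻¹) * (g * u * g⁻¹)⁻¹ = g * (u * y * u⁻¹) * g⁻¹ := by group
  rw [e1, huy]
  group

theorem sReal_conj_iff (g y : G) : SReal (g * y * g⁻¹) ↔ SReal y := by
  constructor
  · intro h
    have := sReal_conj_of g⁻¹ _ h
    have e : g⁻¹ * (g * y * g⁻¹) * g⁻¹⁻¹ = y := by group
    rwa [e] at this
  · exact sReal_conj_of g y

theorem inU_conj_iff (g y : G) : InU K (g * y * g⁻¹) ↔ InU K y := by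
  unfold InU
  rw [conjIn_conj_iff, sReal_conj_iff]

theorem cent_conj (g z : G) {x : G} :
    x ∈ Subgroup.centralizer ({g * z * g⁻¹} : Set G) ↔
      g⁻¹ * x * g ∈ Subgroup.centralizer ({z} : Set G) := by
  rw [mem_cent, mem_cent]
  constructor
  · intro h
    have e1 : g⁻¹ * x * g * z = g⁻¹ * (x * (g * z * g⁻¹)) * g := by group
    have e2 : z * (g⁻¹ * x * g) = g⁻¹ * ((g * z * g⁻¹) * x) * g := by group
    rw [e1, e2, h]
  · intro h
    have e1 : x * (g * z * g⁻¹) = g * (g⁻¹ * x * g * z) * g⁻¹ := by group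
    have e2 : (g * z * g⁻¹) * x = g * (z * (g⁻¹ * x * g)) * g⁻¹ := by group
    rw [e1, e2, h]

/-- the Burnside hypothesis for a subgroup of odd order avoiding `U` -/
theorem burn_hyp [Finite G] (hT : StT K) (L : Subgroup G) (hodd : ∀ x ∈ L, Odd (orderOf x))
    (hU : ∀ x ∈ L, ¬ InU K x) (r : ℕ) (hr : r.Prime) (R : Sylow r L) :
    Subgroup.normalizer ((R : Subgroup L) : Set L) ≤
      Subgroup.centralizer ((R : Subgroup L) : Set L) := by
  have : Fact r.Prime := ⟨hr⟩
  intro g hg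
  by_cases hR : (R : Subgroup L) = ⊥
  · rw [hR]
    rw [Subgroup.mem_centralizer_iff]
    intro x hx
    have : x = 1 := by simpa using hx
    rw [this]; simp
  have : Nontrivial (R : Subgroup L) := (Subgroup.nontrivial_iff_ne_bot _).2 hR
  have := IsPGroup.center_nontrivial R.2
  obtain ⟨z0, hz0⟩ := exists_ne (1 : Subgroup.center (R : Subgroup L))
  set z1 : L := ((z0 : (R : Subgroup L)) : L) with hz1
  have hz1R : z1 ∈ (R : Subgroup L) := (z0 : (R : Subgroup L)).2
  have hz1ne : z1 ≠ 1 := by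
    intro h
    apply hz0
    apply Subtype.ext
    apply Subtype.ext
    exact h
  have hz1c : ∀ x ∈ (R : Subgroup L), x * z1 = z1 * x := by
    intro x hx
    have := Subgroup.mem_center_iff.1 z0.2 ⟨x, hx⟩
    exact congrArg Subtype.val this
  set z : G := (z1 : G) with hz
  have hzne : z ≠ 1 := by
    intro h
    apply hz1ne
    apply Subtype.ext
    exact h
  obtain ⟨Bz, hzB, hBc, hBcent, hBn⟩ := hT z hzne (hodd z z1.2) (hU z z1.2)
  have hRB : ∀ x ∈ (R : Subgroup L), (x : G) ∈ Bz := by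
    intro x hx
    rw [← hBcent z hzB hzne (hodd z z1.2), mem_cent]
    exact congrArg Subtype.val (hz1c x hx)
  have hgz : g * z1 * g⁻¹ ∈ (R : Subgroup L) := (Subgroup.mem_normalizer_iff.1 hg z1).1 hz1R
  have hgzB : (g : G) * z * (g : G)⁻¹ ∈ Bz := hRB _ hgz
  have hgzne : (g : G) * z * (g : G)⁻¹ ≠ 1 := by
    intro h
    apply hzne
    calc z = (g : G)⁻¹ * ((g : G) * z * (g : G)⁻¹) * (g : G) := by group
      _ = 1 := by rw [h]; group
  have hc2 := hBcent _ hgzB hgzne (by rw [orderOf_conj_eq]; exact hodd z z1.2)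
  have hc1 := hBcent z hzB hzne (hodd z z1.2)
  have hgN : (g : G) ∈ Subgroup.normalizer (Bz : Set G) := by
    rw [Subgroup.mem_normalizer_iff'']
    intro x
    have := cent_conj (g : G) z (x := x)
    rwa [hc2, hc1] at this
  have hgB : (g : G) ∈ Bz := hBn _ hgN (hodd _ g.2)
  rw [Subgroup.mem_centralizer_iff]
  intro x hx
  apply Subtype.ext
  exact hBc _ (hRB x hx) _ hgB

theorem mh_arith1 (q m n g : ℕ) (hq : q + 1 = 2 * m) (h4 : 4 ≤ m)
    (h1 : (q ^ 2 - 1) * n = g * (q - 1)) (h2 : 2 * g = q * (q + 1) * (q - 1)) :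
    n = q * (m - 1) := by
  obtain ⟨j, rfl⟩ : ∃ j, m = j + 1 := ⟨m - 1, by omega⟩
  have hqj : q = 2 * j + 1 := by omega
  subst hqj
  have e1 : (2 * j + 1) ^ 2 - 1 = 4 * j * (j + 1) := by
    have : (2 * j + 1) ^ 2 = 4 * j * (j + 1) + 1 := by ring
    omega
  rw [e1] at h1
  simp only [Nat.add_sub_cancel] at h1 h2 ⊢
  apply Nat.eq_of_mul_eq_mul_left (show 0 < 8 * j * (j + 1) by
    have : 0 < j := by omega
    positivity)
  calc 8 * j * (j + 1) * n = 2 * (4 * j * (j + 1) * n) := by ring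
    _ = 2 * (g * (2 * j)) := by rw [h1]
    _ = (2 * g) * (2 * j) := by ring
    _ = ((2 * j + 1) * (2 * j + 1 + 1) * (2 * j)) * (2 * j) := by rw [h2]
    _ = 8 * j * (j + 1) * ((2 * j + 1) * j) := by ring

theorem mh_coprime (q m : ℕ) (hq : q + 1 = 2 * m) (h4 : 4 ≤ m) : Nat.Coprime q (m - 1) := by
  obtain ⟨j, rfl⟩ : ∃ j, m = j + 1 := ⟨m - 1, by omega⟩
  have hqj : q = 2 * j + 1 := by omega
  subst hqj
  simp only [Nat.add_sub_cancel]
  have : Nat.gcd (2 * j + 1) j ∣ 1 := by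
    have h1 := Nat.gcd_dvd_left (2 * j + 1) j
    have h2 := Nat.gcd_dvd_right (2 * j + 1) j
    exact (Nat.dvd_add_right (Dvd.dvd.mul_left h2 2)).1 h1
  exact Nat.dvd_one.1 this

theorem conj_ne_one {g a : G} (ha : a ≠ 1) : g * a * g⁻¹ ≠ 1 := by
  intro h
  apply ha
  calc a = g⁻¹ * (g * a * g⁻¹) * g := by group
    _ = 1 := by rw [h]; group

theorem minus_final {G : Type u} [Group G] [Fintype G] {K H : Subgroup G} {t : G} {q : ℕ}
    {X : G → ℤ} (B : Cfg K H t) (C : CharOut K q (-1) X) (h4 : 4 ≤ Nat.card K)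
    (hA : StA K q X) (hB : StB K q) (hD : StD K) (hE : StE K q) (hT : StT K) {p : ℕ}
    (hF : StF K q p) (hG : StG G p) : Concl G := by
  obtain ⟨hp, ⟨f, hf⟩, hFo⟩ := hF
  have : Fact p.Prime := ⟨hp⟩
  obtain ⟨m, hm⟩ : ∃ m, m = Nat.card K := ⟨_, rfl⟩
  rw [← hm] at h4
  have hq : q + 1 = 2 * m := by
    have := C.cardK
    rw [← hm] at this
    omega
  have hcG : 2 * Nat.card G = q * (q + 1) * (q - 1) := by
    have := C.cardG
    zify [show 1 ≤ q by omega]
    linarith
  have hpq : p ∣ q := by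
    rcases Nat.eq_zero_or_pos f with h0 | h0
    · subst h0
      simp at hf
      omega
    · rw [hf]
      exact dvd_pow_self p (by omega)
  have hcop := mh_coprime q m hq h4
  unfold StB at hB
  -- `U` is not empty
  have hUne : ∃ y0, InU K y0 := by
    by_contra hne
    push Not at hne
    have : IsEmpty {y : G // InU K y} := ⟨fun y => hne y.1 y.2⟩
    have h0 : Nat.card {y : G // InU K y} = 0 := Nat.card_of_isEmpty
    rw [hB] at h0
    have : 7 ^ 2 ≤ q ^ 2 := Nat.pow_le_pow_left (by omega) 2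
    omega
  obtain ⟨y0, hy0⟩ := hUne
  obtain ⟨Q, hQ⟩ : ∃ Q, Q = Subgroup.centralizer ({y0} : Set G) := ⟨_, rfl⟩
  obtain ⟨hQc, hQU, hQconj⟩ := hE y0 hy0
  rw [← hQ] at hQc hQU
  have hy0Q : y0 ∈ Q := by rw [hQ]; exact mem_cent.2 rfl
  -- centralisers of elements of `U` are Sylow
  have hsyl : ∀ x, InU K x →
      ∃ P : Sylow p G, (P : Subgroup G) = Subgroup.centralizer ({x} : Set G) := by
    intro x hx
    have hc := (hE x hx).1
    have h1 : IsPGroup p (Subgroup.centralizer ({x} : Set G)) :=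
      IsPGroup.of_card (n := f) (by rw [hc, hf])
    have h2 : ¬ p ∣ (Subgroup.centralizer ({x} : Set G)).index := by
      intro hdvd
      have h3 := (Subgroup.centralizer ({x} : Set G)).card_mul_index
      rw [hc] at h3
      have h5 : 2 * (Subgroup.centralizer ({x} : Set G)).index = (q + 1) * (q - 1) := by
        apply Nat.eq_of_mul_eq_mul_left (show 0 < q by omega)
        calc q * (2 * (Subgroup.centralizer ({x} : Set G)).index)
            = 2 * (q * (Subgroup.centralizer ({x} : Set G)).index) := by ring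
          _ = 2 * Nat.card G := by rw [h3]
          _ = q * ((q + 1) * (q - 1)) := by rw [hcG]; ring
      have h6 : p ∣ (q + 1) * (q - 1) := h5 ▸ Dvd.dvd.mul_left hdvd 2
      rcases (Nat.Prime.dvd_mul hp).1 h6 with h | h
      · have : p ∣ 1 := (Nat.dvd_add_right hpq).1 h
        exact hp.one_lt.ne' (Nat.dvd_one.1 this)
      · have : p ∣ 1 := by
          have e : (q - 1) + 1 = q := by omega
          rw [← e] at hpq
          exact (Nat.dvd_add_right h).1 hpq
        exact hp.one_lt.ne' (Nat.dvd_one.1 this)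
    exact ⟨h1.toSylow h2, rfl⟩
  have hTI := Cfsg.Agent.Lib.Helper36.BSW.sylow_ti_of_local p hG
  have hcent : ∀ x ∈ Q, x ≠ 1 → Subgroup.centralizer ({x} : Set G) = Q := by
    intro x hx hx1
    obtain ⟨P, hP⟩ := hsyl y0 hy0
    obtain ⟨P', hP'⟩ := hsyl x (hQU x hx hx1)
    by_contra hne
    have hPP : P' ≠ P := by
      intro h
      apply hne
      rw [← hP', h, hP, hQ]
    have h3 := hTI P' P hPP
    rw [hP, hP', ← hQ] at h3
    have h4 : x ∈ Subgroup.centralizer ({x} : Set G) ⊓ Q := ⟨mem_cent.2 rfl, hx⟩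
    rw [h3] at h4
    exact hx1 (Subgroup.mem_bot.1 h4)
  have hTIQ : ∀ a ∈ Q, a ≠ 1 → ∀ g : G, g * a * g⁻¹ ∈ Q →
      g ∈ Subgroup.normalizer (Q : Set G) := by
    intro a ha ha1 g hg
    have hc2 := hcent _ hg (conj_ne_one ha1)
    have hc1 := hcent a ha ha1
    rw [Subgroup.mem_normalizer_iff'']
    intro x
    have := cent_conj g a (x := x)
    rwa [hc2, hc1] at this
  have hcount := Cfsg.Agent.Lib.Helper4.BSW.card_conj_union Q hTIQ
  have hUeq : Nat.card {z : G // z ≠ 1 ∧ ConjIn Q z} = Nat.card {y : G // InU K y} := by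
    apply Nat.card_congr
    apply Equiv.subtypeEquivRight
    intro z
    constructor
    · rintro ⟨hz1, g, hg⟩
      exact (inU_conj_iff g z).1 (hQU _ hg (conj_ne_one hz1))
    · intro hz
      refine ⟨?_, ?_⟩
      · rintro rfl
        exact hz.1 conjIn_one
      · rcases hQconj z hz with h | h
        · obtain ⟨g, hg⟩ := isConj_iff.1 h
          exact ⟨g, by rw [hg]; exact hy0Q⟩
        · obtain ⟨g, hg⟩ := isConj_iff.1 h
          exact ⟨g, by rw [hg]; exact Q.inv_mem hy0Q⟩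
  rw [hUeq, hB, hQc] at hcount
  obtain ⟨N, hNdef⟩ : ∃ N, N = Subgroup.normalizer (Q : Set G) := ⟨_, rfl⟩
  rw [← hNdef] at hcount
  have hN : Nat.card N = q * (m - 1) := mh_arith1 q m _ _ hq h4 hcount hcG
  have hQN : Q ≤ N := by rw [hNdef]; exact Subgroup.le_normalizer
  have hnorm : (Q.subgroupOf N).Normal := by rw [hNdef]; exact Subgroup.normal_in_normalizer
  have hcQ' : Nat.card (Q.subgroupOf N) = q := by
    rw [Nat.card_congr (Subgroup.subgroupOfEquivOfLe hQN).toEquiv, hQc]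
  have hidx : (Q.subgroupOf N).index = m - 1 := by
    have := (Q.subgroupOf N).card_mul_index
    rw [hcQ', hN] at this
    exact Nat.eq_of_mul_eq_mul_left (by omega) this
  obtain ⟨L', hL'⟩ := Subgroup.exists_right_complement'_of_coprime (N := Q.subgroupOf N)
    (by rw [hcQ', hidx]; exact hcop)
  obtain ⟨L, hLdef⟩ : ∃ L, L = L'.map N.subtype := ⟨_, rfl⟩
  have hLc : Nat.card L = m - 1 := by
    have h1 := hL'.card_mul_card
    have h2 : Nat.card L = Nat.card L' := by
      rw [hLdef]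
      exact Subgroup.card_map_of_injective N.subtype_injective
    rw [hcQ', hN] at h1
    rw [h2]
    exact Nat.eq_of_mul_eq_mul_left (by omega) h1
  have hLord : ∀ x ∈ L, orderOf x ∣ m - 1 := by
    intro x hx
    have := orderOf_dvd_natCard (⟨x, hx⟩ : L)
    rwa [Subgroup.orderOf_mk, hLc] at this
  have hmodd : Odd (m - 1) := by
    obtain ⟨k, hk⟩ := even_card_K B
    rw [← hm] at hk
    exact ⟨k - 1, by omega⟩
  have hLodd : ∀ x ∈ L, Odd (orderOf x) := fun x hx => Odd.of_dvd_nat hmodd (hLord x hx)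
  have hLU : ∀ x ∈ L, ¬ InU K x := by
    intro x hx hU
    have h1 := hFo x hU
    have h2 := hLord x hx
    rw [h1] at h2
    have h3 : p ∣ Nat.gcd q (m - 1) := Nat.dvd_gcd hpq h2
    rw [hcop] at h3
    exact hp.one_lt.ne' (Nat.dvd_one.1 h3)
  have hLK : ∀ x ∈ L, x ≠ 1 → ¬ ConjIn K x := by
    rintro x hx hx1 ⟨g, hg⟩
    have h1 : orderOf x ∣ m := by
      have := orderOf_dvd_natCard (⟨_, hg⟩ : K)
      rwa [Subgroup.orderOf_mk, orderOf_conj_eq, ← hm] at this
    have h2 := hLord x hx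
    have h3 : orderOf x ∣ 1 := by
      have e : (m - 1) + 1 = m := by omega
      rw [← e] at h1
      exact (Nat.dvd_add_right h2).1 h1
    exact hx1 (orderOf_eq_one_iff.1 (Nat.dvd_one.1 h3))
  have hLcomm : ∀ a b : L, a * b = b * a :=
    Cfsg.Agent.Lib.Helper36.BSW.comm_of_burnside (fun r hr R => burn_hyp hT L hLodd hLU r hr R)
  have hLne : L ≠ ⊥ := by
    intro h
    rw [h] at hLc
    simp at hLc
    omega
  obtain ⟨⟨z, hzL⟩, hz1'⟩ := Subgroup.ne_bot_iff_exists_ne_one.1 hLne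
  have hz1 : z ≠ 1 := fun h => hz1' (Subtype.ext h)
  have hzK := hLK z hzL hz1
  have hzS : SReal z := by
    by_contra h
    exact hLU z hzL ⟨hzK, h⟩
  have hCz := (hA z hzK hzS).2
  have hLC : L = Subgroup.centralizer ({z} : Set G) := by
    apply Subgroup.eq_of_le_of_card_ge
    · intro x hx
      rw [mem_cent]
      exact congrArg Subtype.val (hLcomm ⟨x, hx⟩ ⟨z, hzL⟩)
    · rw [hLc]
      omega
  have hDP : DProp L := hLC ▸ hD z hzK hzS
  unfold Concl
  refine ⟨Q, L, ?_, hcent, ?_, ?_, ?_, ?_, hDP⟩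
  · rw [hQc]
    exact hcG
  · exact ⟨⟨fun a b => hLcomm a b⟩⟩
  · rw [hLc, hQc]
    omega
  · exact (Subgroup.disjoint_of_coprime_natCard (by rw [hQc, hLc]; exact hcop)).eq_bot
  · have h1 := hL'.sup_eq_top
    have h2 := congrArg (Subgroup.map N.subtype) h1
    rw [Subgroup.map_sup, Subgroup.subgroupOf_map_subtype, inf_of_le_left hQN,
      ← MonoidHom.range_eq_map, Subgroup.range_subtype, ← hLdef] at h2
    rw [← hNdef]
    exact h2.symm

end Cfsg.Agent.Lib.Helper91.BSW
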