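import Cfsg.Agent.Lib.Helper8.ReeLad
import Cfsg.Agent.Lib.Helper91.ReePK1
import Cfsg.Agent.Lib.Helper91.ReePK2
import Cfsg.Agent.Lib.Helper91.ReePK3

/-!
# REE ladder, package PK4: the centraliser of the involution `j`
-/

set_option autoImplicit false

namespace Cfsg.Agent.Lib.Helper8.ReeFull

open Cfsg.Agent.Lib.Helper46 Matrix

variable {G : Type*} [Group G] {K : Type*} [Field K] (D : ReeFull G K)

theorem pk4_j_inv : D.j⁻¹ = D.j := inv_eq_of_mul_eq_one_left D.j_sq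

theorem pk4_j_U (a : K) : D.j * D.U 0 a 0 = D.U 0 a 0 * D.j := by
  have h := D.pk2_j_conj 0 a 0
  rw [neg_zero] at h
  calc D.j * D.U 0 a 0 = (D.j * D.U 0 a 0 * D.j⁻¹) * D.j := by group
    _ = _ := by rw [h]

theorem pk4_j_H (z : Kˣ) : D.j * D.H z = D.H z * D.j := D.H_comm _ _

theorem pk4_fix {x : G} (hx : x ∈ D.Us) (h : D.j * x * D.j⁻¹ = x) : ∃ a, x = D.U 0 a 0 := by
  obtain ⟨t, u, v, rfl⟩ := hx
  rw [D.pk2_j_conj] at h
  obtain ⟨h1, -, h3⟩ := D.U_inj _ _ _ _ _ _ h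
  have h2 := D.two_ne_zero'
  have ht : t = 0 := by
    have : (2 : K) * t = 0 := by linear_combination -h1
    exact (mul_eq_zero.1 this).resolve_left h2
  have hv : v = 0 := by
    have : (2 : K) * v = 0 := by linear_combination -h3
    exact (mul_eq_zero.1 this).resolve_left h2
  exact ⟨u, by rw [ht, hv]⟩

theorem pk4_j_conj_mem {x : G} (hx : x ∈ D.Us) : D.j * x * D.j⁻¹ ∈ D.Us := D.H_conj_mem _ hx

theorem cent_j_iff {g : G} : g * D.j = D.j * g ↔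
    (∃ a z, g = D.U 0 a 0 * D.H z) ∨ ∃ a z b, g = D.U 0 a 0 * D.H z * D.n * D.U 0 b 0 := by
  constructor
  · intro h
    rcases D.cover' g with ⟨x, hx, z, rfl⟩ | ⟨x, hx, z, y, hy, rfl⟩
    · left
      have e1 : D.j * (x * D.H z) = (D.j * x * D.j⁻¹) * D.H z * D.j := by
        rw [mul_assoc _ (D.H z), ← D.pk4_j_H]; group
      rw [e1] at h
      have h1 := (D.uniqB' hx (D.pk4_j_conj_mem hx) (mul_right_cancel h)).1
      obtain ⟨a, rfl⟩ := D.pk4_fix hx h1.symm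
      exact ⟨a, z, rfl⟩
    · right
      have e1 : D.j * (x * D.H z * D.n * y) * D.j⁻¹
          = (D.j * x * D.j⁻¹) * D.H z * D.n * (D.j * y * D.j⁻¹) := by
        calc D.j * (x * D.H z * D.n * y) * D.j⁻¹
            = (D.j * x * D.j⁻¹) * (D.j * D.H z) * D.n * y * D.j⁻¹ := by group
          _ = (D.j * x * D.j⁻¹) * D.H z * (D.j * D.n) * y * D.j⁻¹ := by rw [D.pk4_j_H]; group
          _ = _ := by rw [← D.n_j]; group
      have h' : x * D.H z * D.n * y = D.j * (x * D.H z * D.n * y) * D.j⁻¹ := by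
        rw [← h]; group
      rw [e1] at h'
      obtain ⟨h1, -, h3⟩ := D.uniq' hx hy (D.pk4_j_conj_mem hx) (D.pk4_j_conj_mem hy) h'
      obtain ⟨a, rfl⟩ := D.pk4_fix hx h1.symm
      obtain ⟨b, rfl⟩ := D.pk4_fix hy h3.symm
      exact ⟨a, z, b, rfl⟩
  · rintro (⟨a, z, rfl⟩ | ⟨a, z, b, rfl⟩)
    · calc D.U 0 a 0 * D.H z * D.j = D.U 0 a 0 * (D.H z * D.j) := by group
        _ = (D.U 0 a 0 * D.j) * D.H z := by rw [← D.pk4_j_H]; group
        _ = _ := by rw [← D.pk4_j_U]; group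
    · calc D.U 0 a 0 * D.H z * D.n * D.U 0 b 0 * D.j
          = D.U 0 a 0 * D.H z * D.n * (D.U 0 b 0 * D.j) := by group
        _ = D.U 0 a 0 * D.H z * (D.n * D.j) * D.U 0 b 0 := by rw [← D.pk4_j_U]; group
        _ = D.U 0 a 0 * (D.H z * D.j) * D.n * D.U 0 b 0 := by rw [D.n_j]; group
        _ = (D.U 0 a 0 * D.j) * D.H z * D.n * D.U 0 b 0 := by rw [← D.pk4_j_H]; group
        _ = _ := by rw [← D.pk4_j_U]; group

/-! ### Bruhat decomposition of `SL₂` -/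

theorem pk4_bruhat (s : SpecialLinearGroup (Fin 2) K) :
    (∃ x z, s = uu x * dd z) ∨ ∃ x z y, s = uu x * dd z * ww * uu y := by
  have hdet := det2 s
  by_cases hc : (s : Matrix (Fin 2) (Fin 2) K) 1 0 = 0
  · left
    rw [hc, mul_zero, sub_zero] at hdet
    have ha : (s : Matrix (Fin 2) (Fin 2) K) 0 0 ≠ 0 := left_ne_zero_of_mul_eq_one hdet
    refine ⟨(s : Matrix (Fin 2) (Fin 2) K) 0 1 * (s : Matrix (Fin 2) (Fin 2) K) 0 0,
      Units.mk0 _ ha, ?_⟩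
    have hd : (s : Matrix (Fin 2) (Fin 2) K) 1 1 = ((s : Matrix (Fin 2) (Fin 2) K) 0 0)⁻¹ :=
      eq_inv_of_mul_eq_one_right hdet
    apply ext2 <;> simp [mul_00, mul_01, mul_10, mul_11, uu, dd, hc, hd, ha]
  · right
    refine ⟨(s : Matrix (Fin 2) (Fin 2) K) 0 0 / (s : Matrix (Fin 2) (Fin 2) K) 1 0,
      Units.mk0 (-((s : Matrix (Fin 2) (Fin 2) K) 1 0)⁻¹) (neg_ne_zero.2 (inv_ne_zero hc)),
      (s : Matrix (Fin 2) (Fin 2) K) 1 1 / (s : Matrix (Fin 2) (Fin 2) K) 1 0, ?_⟩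
    apply ext2 <;> simp [mul_00, mul_01, mul_10, mul_11, uu, dd, ww] <;> field_simp
    linear_combination -hdet

theorem pk4_φ_form (s : SpecialLinearGroup (Fin 2) K) :
    (∃ x z w, s = uu x * dd z ∧ D.φ (dd z) = D.H w ∧ D.φ s = D.U 0 x 0 * D.H w) ∨
      ∃ x w y, D.φ s = D.U 0 x 0 * D.H w * D.n * D.U 0 y 0 := by
  rcases pk4_bruhat s with ⟨x, z, rfl⟩ | ⟨x, z, y, rfl⟩
  · left
    obtain ⟨w, hw⟩ := D.φ_dd z
    exact ⟨x, z, w, rfl, hw, by rw [map_mul, D.φ_uu, hw]⟩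
  · right
    obtain ⟨w, hw⟩ := D.φ_dd z
    exact ⟨x, w, y, by rw [map_mul, map_mul, map_mul, D.φ_uu, D.φ_uu, D.φ_ww, hw]⟩

theorem pk4_ww_sq : (ww : SpecialLinearGroup (Fin 2) K) * ww = negOne := by
  apply ext2 <;> simp [mul_00, mul_01, mul_10, mul_11, ww, negOne]

theorem pk4_uu_zero : (uu 0 : SpecialLinearGroup (Fin 2) K) = 1 := by
  apply ext2 <;> simp [uu]

theorem pk4_dd_neg_one : (dd (-1) : SpecialLinearGroup (Fin 2) K) = negOne := by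
  apply ext2 <;> simp [dd, negOne]

theorem pk4_φ_negOne : D.φ negOne = 1 := by
  rw [← pk4_ww_sq, map_mul, D.φ_ww, D.n_sq]

theorem pk4_unit_of_sq {z : Kˣ} (h : (z : K) ^ 2 = 1) : z = 1 ∨ z = -1 :=
  pk3_unit_sq (Units.ext (by simpa [pow_two] using h))

include D in
theorem pk4_neg_one_ne : (-1 : Kˣ) ≠ 1 := by
  intro h
  apply D.j_ne_one
  unfold j
  rw [h, map_one]

theorem φ_eq_one_iff {s : SpecialLinearGroup (Fin 2) K} : D.φ s = 1 ↔ s = 1 ∨ s = negOne := by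
  constructor
  · intro h
    rcases D.pk4_φ_form s with ⟨x, z, w, rfl, hw, hs⟩ | ⟨x, w, y, hs⟩
    · rw [h] at hs
      have h1 : 1 * D.H 1 = D.U 0 x 0 * D.H w := by rw [map_one, one_mul]; exact hs
      obtain ⟨h2, h3⟩ := D.uniqB' (one_mem _) (D.U_mem _ _ _) h1
      rw [← D.U_zero] at h2
      have hx : x = 0 := ((D.U_inj _ _ _ _ _ _ h2).2.1).symm
      have hwt := D.pk3_weight hw
      rw [← h3] at hwt
      simp only [Units.val_one, map_one, mul_one] at hwt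
      rcases pk4_unit_of_sq hwt.symm with rfl | rfl
      · left
        rw [hx, pk4_uu_zero, dd_one, one_mul]
      · right
        rw [hx, pk4_uu_zero, pk4_dd_neg_one, one_mul]
    · exfalso
      rw [h] at hs
      have h1 : 1 * D.H 1 = D.U 0 x 0 * D.H w * D.n * D.U 0 y 0 := by
        rw [map_one, one_mul]; exact hs
      exact D.disj' (one_mem _) (D.U_mem _ _ _) (D.U_mem _ _ _) h1
  · rintro (rfl | rfl)
    · exact map_one _
    · exact D.pk4_φ_negOne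

theorem φ_ne_j (s : SpecialLinearGroup (Fin 2) K) : D.φ s ≠ D.j := by
  intro h
  rcases D.pk4_φ_form s with ⟨x, z, w, rfl, hw, hs⟩ | ⟨x, w, y, hs⟩
  · rw [h] at hs
    have h1 : 1 * D.H (-1) = D.U 0 x 0 * D.H w := by rw [one_mul]; exact hs
    obtain ⟨-, h3⟩ := D.uniqB' (one_mem _) (D.U_mem _ _ _) h1
    have hwt := D.pk3_weight hw
    rw [← h3] at hwt
    simp only [Units.val_neg, Units.val_one, map_neg, map_one, mul_neg, mul_one, neg_neg] at hwt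
    have hone : D.φ (dd z) = 1 := by
      rcases pk4_unit_of_sq hwt.symm with rfl | rfl
      · rw [dd_one, map_one]
      · rw [pk4_dd_neg_one, D.pk4_φ_negOne]
    rw [hone, ← h3] at hw
    exact D.j_ne_one hw.symm
  · rw [h] at hs
    have h1 : 1 * D.H (-1) = D.U 0 x 0 * D.H w * D.n * D.U 0 y 0 := by
      rw [one_mul]; exact hs
    exact D.disj' (one_mem _) (D.U_mem _ _ _) (D.U_mem _ _ _) h1

theorem φ_comm_j (s : SpecialLinearGroup (Fin 2) K) : D.φ s * D.j = D.j * D.φ s := by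
  rw [D.cent_j_iff]
  rcases D.pk4_φ_form s with ⟨x, z, w, -, -, hs⟩ | ⟨x, w, y, hs⟩
  · exact Or.inl ⟨x, w, hs⟩
  · exact Or.inr ⟨x, w, y, hs⟩

theorem cent_j_eq {g : G} (h : g * D.j = D.j * g) : ∃ s, g = D.φ s ∨ g = D.j * D.φ s := by
  rcases D.cent_j_iff.1 h with ⟨a, z, rfl⟩ | ⟨a, z, b, rfl⟩
  · obtain ⟨s, w, hw, hz⟩ := D.pk3_exists z
    refine ⟨uu a * dd s, ?_⟩
    rw [map_mul, D.φ_uu, hw]
    rcases hz with rfl | rfl
    · exact Or.inl rfl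
    · right
      rw [D.pk3_H_neg, ← mul_assoc, ← mul_assoc, D.pk4_j_U]
  · obtain ⟨s, w, hw, hz⟩ := D.pk3_exists z
    refine ⟨uu a * dd s * ww * uu b, ?_⟩
    rw [map_mul, map_mul, map_mul, D.φ_uu, D.φ_uu, D.φ_ww, hw]
    rcases hz with rfl | rfl
    · exact Or.inl rfl
    · right
      rw [D.pk3_H_neg]
      simp only [← mul_assoc]
      rw [D.pk4_j_U]

theorem card_cent_j : Nat.card (Subgroup.centralizer ({D.j} : Set G)) = D.q * (D.q ^ 2 - 1) := by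
  have := D.pk1_finite_K
  have hq : D.q ^ 2 - 1 = (D.q + 1) * (D.q - 1) := by
    have := Nat.sq_sub_sq D.q 1
    simpa using this
  have hcard : Nat.card ((K × Kˣ) ⊕ (K × Kˣ × K)) = D.q * (D.q ^ 2 - 1) := by
    rw [Nat.card_sum, Nat.card_prod, Nat.card_prod, Nat.card_prod, D.pk1_card_K,
      D.pk1_card_units, hq]
    ring
  rw [← hcard]
  symm
  apply Nat.card_congr
  refine Equiv.ofBijective (Sum.elim
    (fun a => ⟨D.U 0 a.1 0 * D.H a.2,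
      Subgroup.mem_centralizer_singleton_iff.2 (D.cent_j_iff.2 (Or.inl ⟨a.1, a.2, rfl⟩))⟩)
    (fun a => ⟨D.U 0 a.1 0 * D.H a.2.1 * D.n * D.U 0 a.2.2 0,
      Subgroup.mem_centralizer_singleton_iff.2
        (D.cent_j_iff.2 (Or.inr ⟨a.1, a.2.1, a.2.2, rfl⟩))⟩)) ⟨?_, ?_⟩
  · rintro (⟨a, z⟩ | ⟨a, z, b⟩) (⟨a', z'⟩ | ⟨a', z', b'⟩) h
    · have h0 : D.U 0 a 0 * D.H z = D.U 0 a' 0 * D.H z' := congrArg Subtype.val h
      obtain ⟨h1, h2⟩ := D.uniqB' (D.U_mem _ _ _) (D.U_mem _ _ _) h0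
      rw [(D.U_inj _ _ _ _ _ _ h1).2.1, h2]
    · exfalso
      have h0 : D.U 0 a 0 * D.H z = D.U 0 a' 0 * D.H z' * D.n * D.U 0 b' 0 :=
        congrArg Subtype.val h
      exact D.disj' (D.U_mem _ _ _) (D.U_mem _ _ _) (D.U_mem _ _ _) h0
    · exfalso
      have h0 : D.U 0 a 0 * D.H z * D.n * D.U 0 b 0 = D.U 0 a' 0 * D.H z' :=
        congrArg Subtype.val h
      exact D.disj' (D.U_mem _ _ _) (D.U_mem _ _ _) (D.U_mem _ _ _) h0.symm
    · have h0 : D.U 0 a 0 * D.H z * D.n * D.U 0 b 0 = D.U 0 a' 0 * D.H z' * D.n * D.U 0 b' 0 :=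
        congrArg Subtype.val h
      obtain ⟨h1, h2, h3⟩ := D.uniq' (D.U_mem _ _ _) (D.U_mem _ _ _) (D.U_mem _ _ _)
        (D.U_mem _ _ _) h0
      rw [(D.U_inj _ _ _ _ _ _ h1).2.1, h2, (D.U_inj _ _ _ _ _ _ h3).2.1]
  · rintro ⟨g, hg⟩
    rcases D.cent_j_iff.1 (Subgroup.mem_centralizer_singleton_iff.1 hg) with
      ⟨a, z, rfl⟩ | ⟨a, z, b, rfl⟩
    · exact ⟨Sum.inl (a, z), rfl⟩
    · exact ⟨Sum.inr (a, z, b), rfl⟩

end Cfsg.Agent.Lib.Helper8.ReeFull
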