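import Mathlib
import Cfsg.Prelude.Def_Solvable
import Cfsg.Agent.Lib.Lead.HKK.AutDefs
import Cfsg.Agent.Lib.Helper55.CycNormal2
import Cfsg.Agent.Lib.Helper31.PSolv
import Cfsg.Agent.Lib.Helper77.AlpA1
import Cfsg.Agent.Lib.Helper77.AlpA2

/-!
# Ladder ALP, rung A5b: the index of `O_p(Q)` is bounded
-/

set_option autoImplicit false

namespace Cfsg.Agent.Lib.Helper91.Alp

open Cfsg Cfsg.Agent.Lib Cfsg.Agent.Lib.Lead.HKK

theorem map_eq_of_forall {G : Type*} [Group G] [Finite G] (α : MulAut G) (H : Subgroup G)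
    (h : ∀ x ∈ H, α x ∈ H) : H.map α.toMonoidHom = H := by
  apply Subgroup.eq_of_le_of_card_ge
  · rintro _ ⟨x, hx, rfl⟩
    exact h x hx
  · rw [Subgroup.card_map_of_injective (f := α.toMonoidHom) α.injective]

theorem index_pCore_le (p : ℕ) [Fact p.Prime] (n : ℕ) (Q : Type*) [Group Q] [Finite Q]
    (hQ : Group.IsSolvable Q) (hO : Cfsg.pPrimeCore p Q = ⊥) (α : MulAut Q) (hα : α ^ p = 1)
    (hfix : Nat.card {g : Q // α g = g} ≤ p ^ n) :
    (Cfsg.pCore p Q).index ≤ (p ^ (p * n)).factorial := by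
  have hPc := Helper53.pCore_characteristic p Q
  have hPn := Helper53.pCore_normal p Q
  have hFn : (Helper55.frO p Q).Normal := Helper55.frO_normal
  have hFP : Helper55.frO p Q ≤ pCore p Q := Helper55.frO_le
  have hPα : (pCore p Q).map α.toMonoidHom = pCore p Q := map_aut_eq α _
  have hFα : (Helper55.frO p Q).map α.toMonoidHom = Helper55.frO p Q := by
    apply map_eq_of_forall
    rintro _ ⟨y, hy, rfl⟩
    refine ⟨resAut α _ hPα y, ?_, rfl⟩
    have := map_aut_eq (resAut α _ hPα) (frattini ↥(pCore p Q))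
    rw [SetLike.mem_coe, ← this]
    exact ⟨y, hy, rfl⟩
  obtain ⟨W, hW⟩ : ∃ W, W = (pCore p Q).map (QuotientGroup.mk' (Helper55.frO p Q)) := ⟨_, rfl⟩
  have hWα : W.map (quotAut α _ hFα).toMonoidHom = W := by
    apply map_eq_of_forall
    rw [hW]
    rintro _ ⟨x, hx, rfl⟩
    refine ⟨α x, ?_, rfl⟩
    rw [SetLike.mem_coe, ← hPα]
    exact ⟨x, hx, rfl⟩
  have hel := Helper55.elemAb_frQ (p := p) (Y := Q)
  rw [Helper14.isElementaryAbelian_iff, ← hW] at hel
  obtain ⟨hcomm, hexp⟩ := hel
  let _ : CommGroup W :=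
    { (inferInstance : Group W) with mul_comm := fun a b => Subtype.ext (hcomm a a.2 b b.2) }
  have hWp : IsPGroup p W := by
    rw [hW]
    exact (Helper53.pCore_isPGroup p Q).map _
  have hWcard : Nat.card W ≤ p ^ (1 * (p * n)) :=
    Helper77.Alp.card_le_of_abelian hWp (resAut (quotAut α _ hFα) W hWα)
      (resAut_pow_eq_one _ _ _ _ (quotAut_pow_eq_one _ _ _ _ hα)) n 1
      ((card_fix_resAut_le _ W hWα).trans ((Helper77.Alp.card_fix_quotAut_le α _ hFα).trans hfix))
      (fun v => Subtype.ext (by simpa using hexp v v.2))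
  have hcent := Helper55.centralizer_frQ_le (Helper31.isPSolvable_of_isSolvable p Q) hO
  rw [← hW] at hcent
  have hWn : W.Normal := by
    rw [hW]
    exact hPn.map _ (QuotientGroup.mk'_surjective _)
  have hker : (MulAut.conjNormal (H := W)).ker ≤ W := by
    intro g hg
    apply hcent
    rw [Subgroup.mem_centralizer_iff]
    intro w hw
    have h1 : MulAut.conjNormal g (⟨w, hw⟩ : W) = ⟨w, hw⟩ := by
      rw [MonoidHom.mem_ker.1 hg]; rfl
    have h2 : g * w * g⁻¹ = w := congrArg Subtype.val h1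
    calc w * g = (g * w * g⁻¹) * g := by rw [h2]
      _ = g * w := by group
  have h1 : W.index ≤ (MulAut.conjNormal (H := W)).ker.index :=
    Nat.le_of_dvd (Nat.pos_of_ne_zero Subgroup.index_ne_zero_of_finite)
      (Subgroup.index_dvd_of_le hker)
  have h2 : (MulAut.conjNormal (H := W)).ker.index ≤ (Nat.card W).factorial := by
    rw [Subgroup.index_ker, ← Nat.card_perm]
    refine Nat.card_le_card_of_injective (fun x => (x.1 : MulAut W).toEquiv) ?_
    intro a b hab
    apply Subtype.ext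
    exact MulEquiv.toEquiv_injective hab
  have h3 : (pCore p Q).index = W.index := by
    have : W.comap (QuotientGroup.mk' (Helper55.frO p Q)) = pCore p Q := by
      rw [hW, Subgroup.comap_map_eq, QuotientGroup.ker_mk', sup_of_le_left hFP]
    rw [← this, Subgroup.index_comap_of_surjective _ (QuotientGroup.mk'_surjective _)]
  rw [h3]
  calc W.index ≤ _ := h1
    _ ≤ _ := h2
    _ ≤ _ := Nat.factorial_le (by simpa using hWcard)

end Cfsg.Agent.Lib.Helper91.Alp
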