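import Cfsg.Agent.Lib.Helper34.Hexacode
import Cfsg.Prelude.Def_Classical

/-!
# Commuting involutions of `SU₃(2)` are equal (brute force over a model of the field of order 4)
-/

set_option autoImplicit false
set_option linter.constructorNameAsVariable false

namespace Cfsg.Agent.Lib.Helper91

open Cfsg Cfsg.Agent.Lib.Helper34

abbrev k4hd (a b c x y t : K4) : K4 :=
  K4.add (K4.add (K4.mul a (K4.mul x x)) (K4.mul b (K4.mul y y))) (K4.mul c (K4.mul t t))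

abbrev k4ld (a b c x y t : K4) : K4 :=
  K4.add (K4.add (K4.mul a x) (K4.mul b y)) (K4.mul c t)

/-- the square of a matrix given by entries is the identity -/
abbrev k4inv (a11 a12 a13 a21 a22 a23 a31 a32 a33 : K4) : Prop :=
  k4ld a11 a12 a13 a11 a21 a31 = .o ∧ k4ld a11 a12 a13 a12 a22 a32 = .z ∧
  k4ld a11 a12 a13 a13 a23 a33 = .z ∧
  k4ld a21 a22 a23 a11 a21 a31 = .z ∧ k4ld a21 a22 a23 a12 a22 a32 = .o ∧
  k4ld a21 a22 a23 a13 a23 a33 = .z ∧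
  k4ld a31 a32 a33 a11 a21 a31 = .z ∧ k4ld a31 a32 a33 a12 a22 a32 = .z ∧
  k4ld a31 a32 a33 a13 a23 a33 = .o

abbrev k4comm (a11 a12 a13 a21 a22 a23 a31 a32 a33 b11 b12 b13 b21 b22 b23 b31 b32 b33 : K4) :
    Prop :=
  k4ld a11 a12 a13 b11 b21 b31 = k4ld b11 b12 b13 a11 a21 a31 ∧
  k4ld a11 a12 a13 b12 b22 b32 = k4ld b11 b12 b13 a12 a22 a32 ∧
  k4ld a11 a12 a13 b13 b23 b33 = k4ld b11 b12 b13 a13 a23 a33 ∧
  k4ld a21 a22 a23 b11 b21 b31 = k4ld b21 b22 b23 a11 a21 a31 ∧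
  k4ld a21 a22 a23 b12 b22 b32 = k4ld b21 b22 b23 a12 a22 a32 ∧
  k4ld a21 a22 a23 b13 b23 b33 = k4ld b21 b22 b23 a13 a23 a33 ∧
  k4ld a31 a32 a33 b11 b21 b31 = k4ld b31 b32 b33 a11 a21 a31 ∧
  k4ld a31 a32 a33 b12 b22 b32 = k4ld b31 b32 b33 a12 a22 a32 ∧
  k4ld a31 a32 a33 b13 b23 b33 = k4ld b31 b32 b33 a13 a23 a33

abbrev k4isOne (a11 a12 a13 a21 a22 a23 a31 a32 a33 : K4) : Prop :=
  a11 = .o ∧ a12 = .z ∧ a13 = .z ∧ a21 = .z ∧ a22 = .o ∧ a23 = .z ∧ a31 = .z ∧ a32 = .z ∧ a33 = .o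

set_option maxRecDepth 100000 in
set_option synthInstance.maxSize 100000 in
set_option synthInstance.maxHeartbeats 0 in
theorem su3_pairs : ∀ a11 a21 a31 : K4, k4hd a11 a21 a31 a11 a21 a31 = .o →
    ∀ a12 a22 a32 : K4, k4hd a11 a21 a31 a12 a22 a32 = .z → k4hd a12 a22 a32 a12 a22 a32 = .o →
    ∀ a13 a23 a33 : K4, k4hd a11 a21 a31 a13 a23 a33 = .z → k4hd a12 a22 a32 a13 a23 a33 = .z →
      k4hd a13 a23 a33 a13 a23 a33 = .o →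
    k4inv a11 a12 a13 a21 a22 a23 a31 a32 a33 →
    ¬ k4isOne a11 a12 a13 a21 a22 a23 a31 a32 a33 →
    ∀ b11 b21 b31 : K4, k4hd b11 b21 b31 b11 b21 b31 = .o →
    ∀ b12 b22 b32 : K4, k4hd b11 b21 b31 b12 b22 b32 = .z → k4hd b12 b22 b32 b12 b22 b32 = .o →
    ∀ b13 b23 b33 : K4, k4hd b11 b21 b31 b13 b23 b33 = .z → k4hd b12 b22 b32 b13 b23 b33 = .z →
      k4hd b13 b23 b33 b13 b23 b33 = .o →
    k4inv b11 b12 b13 b21 b22 b23 b31 b32 b33 →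
    ¬ k4isOne b11 b12 b13 b21 b22 b23 b31 b32 b33 →
    k4comm a11 a12 a13 a21 a22 a23 a31 a32 a33 b11 b12 b13 b21 b22 b23 b31 b32 b33 →
    a11 = b11 ∧ a12 = b12 ∧ a13 = b13 ∧ a21 = b21 ∧ a22 = b22 ∧ a23 = b23 ∧ a31 = b31 ∧
      a32 = b32 ∧ a33 = b33 := by
  decide +kernel

end Cfsg.Agent.Lib.Helper91
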