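import Cfsg.Agent.Lib.Helper91.TTS5

/-!
# 3-transposition sets in which every `D_d` generates `S₃`
-/

set_option autoImplicit false

namespace Cfsg.Agent.Lib.Helper91

open Cfsg

section ids
variable {G : Type*} [Group G]

theorem zeta_id (a b c : G) (a2 : a * a = 1) (b2 : b * b = 1) (c2 : c * c = 1)
    (b1 : a * b * a = b * a * b) (b2' : a * c * a = c * a * c) (b3 : b * c * b = c * b * c)
    (b4 : (a * b * a) * c * (a * b * a) = c * (a * b * a) * c) :
    (a * b * c * (a * b) * c) * a = a * (a * b * c * (a * b) * c) ∧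
    (a * b * c * (a * b) * c) * b = b * (a * b * c * (a * b) * c) := by
  refine ⟨?_, ?_⟩ <;> grind (acSteps := 10000000)

theorem s4_conj_id (d e y : G) (d2 : d * d = 1) (e2 : e * e = 1) (y2 : y * y = 1)
    (de : d * e = e * d) (b1 : d * y * d = y * d * y) (b2 : e * y * e = y * e * y) :
    (d * e) * (y * (d * e) * y) = (e * y * e) * (d * e) * (e * y * e) := by
  grind (acSteps := 10000000)

theorem S3_invol_aux : ∀ σ τ ρ : Equiv.Perm (Fin 3), (σ * σ = 1 ∧ σ ≠ 1 ∧ τ * τ = 1 ∧ τ ≠ 1 ∧
    ρ * ρ = 1 ∧ ρ ≠ 1 ∧ σ ≠ τ) → σ * τ ≠ τ * σ ∧ (ρ = σ ∨ ρ = τ ∨ ρ = σ * τ * σ) := by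
  decide

theorem S3_invol (σ τ ρ : Equiv.Perm (Fin 3)) (h1 : σ * σ = 1) (h2 : σ ≠ 1) (h3 : τ * τ = 1)
    (h4 : τ ≠ 1) (h5 : ρ * ρ = 1) (h6 : ρ ≠ 1) (h7 : σ ≠ τ) :
    σ * τ ≠ τ * σ ∧ (ρ = σ ∨ ρ = τ ∨ ρ = σ * τ * σ) :=
  S3_invol_aux σ τ ρ ⟨h1, h2, h3, h4, h5, h6, h7⟩

theorem S3_center : ∀ σ : Equiv.Perm (Fin 3), (∀ τ, σ * τ = τ * σ) → σ = 1 := by
  decide

theorem commute_closure_closure {S T : Set G} (h : ∀ x ∈ S, ∀ y ∈ T, Commute x y) {x y : G}
    (hx : x ∈ Subgroup.closure S) (hy : y ∈ Subgroup.closure T) : Commute x y := by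
  induction hx using Subgroup.closure_induction with
  | mem a ha =>
    induction hy using Subgroup.closure_induction with
    | mem b hb => exact h a ha b hb
    | one => exact Commute.one_right a
    | mul b c _ _ ihb ihc => exact ihb.mul_right ihc
    | inv b _ ihb => exact ihb.inv_right
  | one => exact Commute.one_left y
  | mul a b _ _ iha ihb => exact iha.mul_left ihb
  | inv a _ iha => exact iha.inv_left

end ids

section
variable {G : Type*} [Group G] {D : Set G}

theorem eq_of_mul_commute (hS : IsThreeTranspositionSet D) {q x y : G} (hq : q ∈ D) (hx : x ∈ D)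
    (hy : y ∈ D) (hqx : ¬ Commute q x) (hqy : ¬ Commute q y) (h : Commute (x * y) q) : x = y := by
  have bx : q * x * q = x * q * x := tt_braid hS hq hx hqx
  have by' : q * y * q = y * q * y := tt_braid hS hq hy hqy
  have x2 := tt_sq hS hx
  have y2 := tt_sq hS hy
  have q2 := tt_sq hS hq
  have h1 : x * (y * q * y) * x = q := by
    calc x * (y * q * y) * x = (x * y * q) * y * x := by simp only [mul_assoc]
      _ = (q * (x * y)) * y * x := by rw [h.eq]
      _ = q * x * (y * y) * x := by simp only [mul_assoc]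
      _ = q * (x * x) := by rw [y2]; simp only [mul_assoc, mul_one]
      _ = q := by rw [x2, mul_one]
  have h2 : y * q * y = x * q * x := by
    calc y * q * y = (x * x) * (y * q * y) * (x * x) := by rw [x2, one_mul, mul_one]
      _ = x * (x * (y * q * y) * x) * x := by simp only [mul_assoc]
      _ = x * q * x := by rw [h1]
  rw [← bx, ← by'] at h2
  exact (mul_left_cancel (mul_right_cancel h2)).symm

theorem sq_of_commute' (hS : IsThreeTranspositionSet D) {x y : G} (hx : x ∈ D) (hy : y ∈ D)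
    (h : Commute x y) : (x * y) ^ 2 = 1 := by
  rw [h.mul_pow, pow_two, pow_two, tt_sq hS hx, tt_sq hS hy, one_mul]

/-- a member of `D` commutes with `x₁` or with a member of the line `D_{x₁}` -/
theorem lemmaX (hS : IsThreeTranspositionSet D) (hconj : ∀ g : G, ∀ d ∈ D, g * d * g⁻¹ ∈ D)
    {x1 x2 x3 y : G} (h1 : x1 ∈ D) (h2 : x2 ∈ D) (h3 : x3 ∈ D) (hy : y ∈ D)
    (c12 : Commute x1 x2) (c13 : Commute x1 x3) (n23 : ¬ Commute x2 x3)
    (huniq : ∀ z ∈ D, Commute z x2 → Commute z x3 → z = x1)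
    (ny1 : ¬ Commute y x1) (ny2 : ¬ Commute y x2) (ny3 : ¬ Commute y x3)
    (ny4 : ¬ Commute y (x2 * x3 * x2)) : False := by
  have s1 := tt_sq hS h1
  have s2 := tt_sq hS h2
  have s3 := tt_sq hS h3
  have sy := tt_sq hS hy
  have h4 : x2 * x3 * x2 ∈ D := by
    have := hconj x2 x3 h3
    rwa [tt_inv hS h2] at this
  obtain ⟨z2, z3⟩ := zeta_id x2 x3 y s2 s3 sy (tt_braid hS h2 h3 n23)
    (tt_braid hS h2 hy (fun h => ny2 h.symm)) (tt_braid hS h3 hy (fun h => ny3 h.symm))
    (tt_braid hS h4 hy (fun h => ny4 h.symm))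
  set ζ := x2 * x3 * y * (x2 * x3) * y with hζ
  have hz1 : ζ * x1 * ζ⁻¹ = x1 := by
    apply huniq _ (hconj ζ x1 h1)
    · have : x2 = ζ * x2 * ζ⁻¹ := by rw [z2]; group
      rw [this]
      exact (Commute.conj_iff ζ).mpr c12
    · have : x3 = ζ * x3 * ζ⁻¹ := by rw [z3]; group
      rw [this]
      exact (Commute.conj_iff ζ).mpr c13
  have cζ : Commute ζ x1 := by
    show ζ * x1 = x1 * ζ
    calc ζ * x1 = ζ * x1 * ζ⁻¹ * ζ := by group
      _ = x1 * ζ := by rw [hz1]
  have cu : Commute (x2 * x3) x1 := (c12.symm.mul_left c13.symm)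
  have cyuy : Commute (y * (x2 * x3) * y) x1 := by
    have e : y * (x2 * x3) * y = (x2 * x3)⁻¹ * ζ := by rw [hζ]; group
    rw [e]
    exact cu.inv_left.mul_left cζ
  have hq : y * x1 * y ∈ D := by
    have := hconj y x1 h1
    rwa [tt_inv hS hy] at this
  have cq : Commute (x2 * x3) (y * x1 * y) := by
    have h5 := (Commute.conj_iff y).mpr cyuy
    have e1 : y * (y * (x2 * x3) * y) * y⁻¹ = x2 * x3 := by
      rw [tt_inv hS hy]
      calc y * (y * (x2 * x3) * y) * y = (y * y) * (x2 * x3) * (y * y) := by simp only [mul_assoc]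
        _ = x2 * x3 := by rw [sy, one_mul, mul_one]
    rw [e1, tt_inv hS hy] at h5
    exact h5
  have hqne : y * x1 * y ≠ x1 := by
    intro h
    apply ny1
    show y * x1 = x1 * y
    calc y * x1 = y * x1 * (y * y) := by rw [sy, mul_one]
      _ = (y * x1 * y) * y := by simp only [mul_assoc]
      _ = x1 * y := by rw [h]
  have nq2 : ¬ Commute (y * x1 * y) x2 := by
    intro h
    apply hqne
    apply huniq _ hq h
    have e : x3 = x2 * (x2 * x3) := by rw [← mul_assoc, s2, one_mul]
    rw [e]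
    exact h.mul_right cq.symm
  have nq3 : ¬ Commute (y * x1 * y) x3 := by
    intro h
    apply hqne
    apply huniq _ hq _ h
    have e : x2 = (x2 * x3) * x3 := by rw [mul_assoc, s3, mul_one]
    rw [e]
    exact cq.symm.mul_right h
  apply n23
  rw [eq_of_mul_commute hS hq h2 h3 nq2 nq3 cq]

/-- the structure of `D_d` when it generates `S₃` -/
theorem Dc_of_iso_S3 (hS : IsThreeTranspositionSet D) {d : G}
    (hiso : Nonempty (↥(Subgroup.closure (Dc D d)) ≃* Equiv.Perm (Fin 3))) {p q : G}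
    (hp : p ∈ Dc D d) (hq : q ∈ Dc D d) (hne : p ≠ q) :
    ¬ Commute p q ∧ ∀ y ∈ Dc D d, y = p ∨ y = q ∨ y = p * q * p := by
  obtain ⟨φ⟩ := hiso
  have key : ∀ x (hx : x ∈ Dc D d), φ ⟨x, Subgroup.subset_closure hx⟩ *
      φ ⟨x, Subgroup.subset_closure hx⟩ = 1 ∧ φ ⟨x, Subgroup.subset_closure hx⟩ ≠ 1 := by
    intro x hx
    constructor
    · rw [← map_mul]
      have : (⟨x, Subgroup.subset_closure hx⟩ : ↥(Subgroup.closure (Dc D d))) *
          ⟨x, Subgroup.subset_closure hx⟩ = 1 := Subtype.ext (tt_sq hS hx.1)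
      rw [this, map_one]
    · intro h
      have h1 : (⟨x, Subgroup.subset_closure hx⟩ : ↥(Subgroup.closure (Dc D d))) = 1 :=
        φ.injective (h.trans (map_one φ).symm)
      exact tt_ne_one hS hx.1 (congrArg Subtype.val h1)
  have hne' : φ ⟨p, Subgroup.subset_closure hp⟩ ≠ φ ⟨q, Subgroup.subset_closure hq⟩ := by
    intro h
    exact hne (congrArg Subtype.val (φ.injective h))
  constructor
  · intro hc
    have h1 := (S3_invol _ _ _ (key p hp).1 (key p hp).2 (key q hq).1 (key q hq).2 (key q hq).1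
      (key q hq).2 hne').1
    apply h1
    rw [← map_mul, ← map_mul]
    congr 1
    exact Subtype.ext hc.eq
  · intro y hy
    rcases (S3_invol _ _ _ (key p hp).1 (key p hp).2 (key q hq).1 (key q hq).2 (key y hy).1
      (key y hy).2 hne').2 with h | h | h
    · left; exact congrArg Subtype.val (φ.injective h)
    · right; left; exact congrArg Subtype.val (φ.injective h)
    · right; right
      rw [← map_mul, ← map_mul] at h
      exact congrArg Subtype.val (φ.injective h)

theorem exists_pair_of_iso_S3 {d : G}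
    (hiso : Nonempty (↥(Subgroup.closure (Dc D d)) ≃* Equiv.Perm (Fin 3))) :
    ∃ p ∈ Dc D d, ∃ q ∈ Dc D d, p ≠ q := by
  by_contra hcon
  push Not at hcon
  obtain ⟨φ⟩ := hiso
  have hc : ∀ x y : ↥(Subgroup.closure (Dc D d)), x * y = y * x := by
    intro x y
    apply Subtype.ext
    exact (commute_closure_closure (S := Dc D d) (T := Dc D d)
      (fun a ha b hb => by rw [hcon a ha b hb]) x.2 y.2).eq
  have h1 := hc (φ.symm (Equiv.swap 0 1)) (φ.symm (Equiv.swap 1 2))
  rw [← map_mul, ← map_mul] at h1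
  have h2 := φ.symm.injective h1
  revert h2
  decide


theorem mem_Dc_symm {d e : G} (hd : d ∈ D) (he : e ∈ Dc D d) : d ∈ Dc D e :=
  ⟨hd, he.2.1.symm, he.2.2.symm⟩

/-- the case of a path `f - d - e - a` without the edge `a - f`: the symmetric group `S₅` -/
theorem iso_S5_of_local (hS : IsThreeTranspositionSet D)
    (hconj : ∀ g : G, ∀ d ∈ D, g * d * g⁻¹ ∈ D)
    (hloc : ∀ d ∈ D, Nonempty (↥(Subgroup.closure (Dc D d)) ≃* Equiv.Perm (Fin 3)))
    {d e f a : G} (hd : d ∈ D) (he : e ∈ Dc D d) (hf : f ∈ Dc D d) (hef : e ≠ f)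
    (ha : a ∈ Dc D e) (had : a ≠ d) (haf : ¬ Commute a f) :
    Nonempty (↥(Subgroup.closure D) ≃* Equiv.Perm (Fin 5)) := by
  obtain ⟨nef, Ld⟩ := Dc_of_iso_S3 hS (hloc d hd) he hf hef
  obtain ⟨nda, Le⟩ := Dc_of_iso_S3 hS (hloc e he.1) (mem_Dc_symm hd he) ha had.symm
  have de : Commute d e := he.2.2
  have df : Commute d f := hf.2.2
  have ea : Commute e a := ha.2.2
  obtain ⟨ψ, hinj, p1, p2, p3, p4⟩ := exists_injective_hom_S5 d a f e (tt_sq hS hd)
    (tt_sq hS ha.1) (tt_sq hS hf.1) (tt_sq hS he.1) (tt_cube hS hd ha.1 nda)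
    (tt_cube hS ha.1 hf.1 haf) (tt_cube hS hf.1 he.1 (fun h => nef h.symm))
    (sq_of_commute' hS hd hf.1 df) (sq_of_commute' hS hd he.1 de)
    (sq_of_commute' hS ha.1 he.1 ea.symm) (by
      intro h
      apply nda
      rw [eq_inv_of_mul_eq_one_left h, tt_inv hS ha.1])
  have hT : ∀ σ : Equiv.Perm (Fin 5), ψ (σ * Equiv.swap 0 1 * σ⁻¹) ∈ D := by
    intro σ
    rw [map_mul, map_mul, map_inv, p1]
    exact hconj _ d hd
  have w1D : ψ (Equiv.swap 0 4) ∈ D := by
    have : (Equiv.swap 0 4 : Equiv.Perm (Fin 5)) =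
      Equiv.swap 1 4 * Equiv.swap 0 1 * (Equiv.swap 1 4)⁻¹ := by decide
    rw [this]; exact hT _
  have w2D : ψ (Equiv.swap 0 3) ∈ D := by
    have : (Equiv.swap 0 3 : Equiv.Perm (Fin 5)) =
      Equiv.swap 1 3 * Equiv.swap 0 1 * (Equiv.swap 1 3)⁻¹ := by decide
    rw [this]; exact hT _
  have hg : e * f * e = ψ (Equiv.swap 2 4) := by
    have : (Equiv.swap 2 4 : Equiv.Perm (Fin 5)) =
      Equiv.swap 3 4 * Equiv.swap 2 3 * Equiv.swap 3 4 := by decide
    rw [this, map_mul, map_mul, p3, p4]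
  have hgD : e * f * e ∈ D := by
    have := hconj e f hf.1
    rwa [tt_inv hS he.1] at this
  have dR : d ∈ ψ.range := ⟨_, p1⟩
  have aR : a ∈ ψ.range := ⟨_, p2⟩
  have fR : f ∈ ψ.range := ⟨_, p3⟩
  have eR : e ∈ ψ.range := ⟨_, p4⟩
  have hDR : ∀ y ∈ D, y ∈ ψ.range := by
    intro y hy
    by_cases cyd : Commute y d
    · by_cases hyd : y = d
      · rw [hyd]; exact dR
      · rcases Ld y ⟨hy, hyd, cyd.symm⟩ with h | h | h
        · rw [h]; exact eR
        · rw [h]; exact fR
        · rw [h]; exact mul_mem (mul_mem eR fR) eR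
    · by_cases cye : Commute y e
      · have hye : y ≠ e := by
          rintro rfl
          exact cyd de.symm
        rcases Le y ⟨hy, hye, cye.symm⟩ with h | h | h
        · rw [h]; exact dR
        · rw [h]; exact aR
        · rw [h]; exact mul_mem (mul_mem dR aR) dR
      · by_cases cyf : Commute y f
        · have hyf : y ≠ f := by
            rintro rfl
            exact cyd df.symm
          have hw : ψ (Equiv.swap 0 4) ∈ Dc D f := by
            refine ⟨w1D, ?_, ?_⟩
            · rw [← p3]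
              intro h
              have := hinj h
              revert this
              decide
            · rw [← p3]
              show ψ _ * ψ _ = ψ _ * ψ _
              rw [← map_mul, ← map_mul]
              congr 1
              decide
          have hdw : d ≠ ψ (Equiv.swap 0 4) := by
            rw [← p1]
            intro h
            have := hinj h
            revert this
            decide
          rcases (Dc_of_iso_S3 hS (hloc f hf.1) (mem_Dc_symm hd hf) hw hdw).2 y
            ⟨hy, hyf, cyf.symm⟩ with h | h | h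
          · rw [h]; exact dR
          · rw [h]; exact ⟨_, rfl⟩
          · rw [h]; exact mul_mem (mul_mem dR ⟨_, rfl⟩) dR
        · by_cases cyg : Commute y (e * f * e)
          · have dg : Commute d (e * f * e) := (de.mul_right df).mul_right de
            have hyg : y ≠ e * f * e := by
              rintro rfl
              exact cyd dg.symm
            have hdg : d ≠ e * f * e := by
              rw [hg, ← p1]
              intro h
              have := hinj h
              revert this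
              decide
            have hw : ψ (Equiv.swap 0 3) ∈ Dc D (e * f * e) := by
              refine ⟨w2D, ?_, ?_⟩
              · rw [hg]
                intro h
                have := hinj h
                revert this
                decide
              · rw [hg]
                show ψ _ * ψ _ = ψ _ * ψ _
                rw [← map_mul, ← map_mul]
                congr 1
                decide
            have hdw : d ≠ ψ (Equiv.swap 0 3) := by
              rw [← p1]
              intro h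
              have := hinj h
              revert this
              decide
            rcases (Dc_of_iso_S3 hS (hloc _ hgD) ⟨hd, hdg, dg.symm⟩ hw hdw).2 y
              ⟨hy, hyg, cyg.symm⟩ with h | h | h
            · rw [h]; exact dR
            · rw [h]; exact ⟨_, rfl⟩
            · rw [h]; exact mul_mem (mul_mem dR ⟨_, rfl⟩) dR
          · exfalso
            refine lemmaX hS hconj hd he.1 hf.1 hy de df nef ?_ cyd cye cyf cyg
            intro z hz cze czf
            have hze : z ≠ e := by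
              rintro rfl
              exact nef czf
            rcases Le z ⟨hz, hze, cze.symm⟩ with h | h | h
            · exact h
            · exfalso; rw [h] at czf; exact haf czf
            · exfalso
              apply haf
              rw [h] at czf
              have h5 := (Commute.conj_iff d).mpr czf
              have e1 : d * (d * a * d) * d⁻¹ = a := by
                rw [tt_inv hS hd]
                calc d * (d * a * d) * d = (d * d) * a * (d * d) := by simp only [mul_assoc]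
                  _ = a := by rw [tt_sq hS hd, one_mul, mul_one]
              have e2 : d * f * d⁻¹ = f := by
                rw [df.eq]; group
              rwa [e1, e2] at h5
  have hRD : ψ.range ≤ Subgroup.closure D := by
    rintro _ ⟨σ, rfl⟩
    have hσ : σ ∈ Submonoid.closure (Set.range fun i : Fin 4 =>
        Equiv.swap i.castSucc i.succ) := by
      rw [Equiv.Perm.mclosure_swap_castSucc_succ 4]; trivial
    induction hσ using Submonoid.closure_induction with
    | mem x hx =>
      obtain ⟨i, rfl⟩ := hx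
      apply Subgroup.subset_closure
      fin_cases i
      · show ψ (Equiv.swap 0 1) ∈ D
        rw [p1]; exact hd
      · show ψ (Equiv.swap 1 2) ∈ D
        rw [p2]; exact ha.1
      · show ψ (Equiv.swap 2 3) ∈ D
        rw [p3]; exact hf.1
      · show ψ (Equiv.swap 3 4) ∈ D
        rw [p4]; exact he.1
    | one => rw [map_one]; exact one_mem _
    | mul x y _ _ ihx ihy => rw [map_mul]; exact mul_mem ihx ihy
  have hEq : ψ.range = Subgroup.closure D :=
    le_antisymm hRD ((Subgroup.closure_le _).mpr hDR)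
  exact ⟨((MonoidHom.ofInjective hinj).trans (MulEquiv.subgroupCongr hEq)).symm⟩


theorem k33_id (d e a : G) (d2 : d * d = 1) (e2 : e * e = 1) (a2 : a * a = 1)
    (de : d * e = e * d) (ea : e * a = a * e) (br : d * a * d = a * d * a) :
    (d * e) * (d * a) * (e * d) = a * d ∧ (d * a) * d * (a * d) = a ∧
      (a * d) * d * (d * a) = d * a * d := by
  refine ⟨?_, ?_, ?_⟩ <;> grind (acSteps := 10000000)

/-- `O₃(G) ∩ C(d)` is generated by `u` if `O₃(C(d))` has order 3 -/
theorem mem_zpowers_of_pCore [Finite G] {d u : G}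
    (hcard : Nat.card (pCore 3 ↥(Subgroup.centralizer ({d} : Set G))) = 3)
    (hu : u ∈ pCore 3 G) (hud : Commute u d) (hu3 : u ^ 3 = 1) (hu1 : u ≠ 1) {n : G}
    (hn : n ∈ pCore 3 G) (hnd : Commute n d) : n ∈ Subgroup.zpowers u := by
  have : Fact (Nat.Prime 3) := ⟨Nat.prime_three⟩
  haveI := pCore_normal' (G := G) 3
  set C := Subgroup.centralizer ({d} : Set G) with hC
  have memC : ∀ x : G, Commute x d → x ∈ C := by
    intro x hx
    rw [hC, Subgroup.mem_centralizer_iff]
    intro h hh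
    rw [Set.mem_singleton_iff.mp hh]
    exact hx.eq.symm
  have hXn : ((pCore 3 G).subgroupOf C).Normal := inferInstance
  have hXp : IsPGroup 3 ((pCore 3 G).subgroupOf C) := (pCore_isPGroup' 3).comap_subtype
  have hX : (pCore 3 G).subgroupOf C ≤ pCore 3 C := le_pCore' 3 hXn hXp
  have hu' : (⟨u, memC u hud⟩ : C) ∈ pCore 3 C := hX (Subgroup.mem_subgroupOf.mpr hu)
  have hn' : (⟨n, memC n hnd⟩ : C) ∈ pCore 3 C := hX (Subgroup.mem_subgroupOf.mpr hn)
  have hord : orderOf (⟨u, memC u hud⟩ : C) = 3 := by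
    apply orderOf_eq_prime
    · exact Subtype.ext hu3
    · intro h
      exact hu1 (congrArg Subtype.val h)
  have hle : Subgroup.zpowers (⟨u, memC u hud⟩ : C) ≤ pCore 3 C :=
    (Subgroup.zpowers_le).mpr hu'
  have heq : Subgroup.zpowers (⟨u, memC u hud⟩ : C) = pCore 3 C := by
    apply Subgroup.eq_of_le_of_card_ge hle
    rw [hcard, Nat.card_zpowers, hord]
  rw [← heq] at hn'
  obtain ⟨k, hk⟩ := Subgroup.mem_zpowers_iff.mp hn'
  refine Subgroup.mem_zpowers_iff.mpr ⟨k, ?_⟩
  have := congrArg Subtype.val hk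
  simpa using this

/-- the case of a 4-cycle `d - e - a - f - d`: the group `S₃ × S₃` -/
theorem iso_S3S3_of_local [Finite G] (hS : IsThreeTranspositionSet D)
    (hconj : ∀ g : G, ∀ d ∈ D, g * d * g⁻¹ ∈ D)
    (hloc : ∀ d ∈ D, Nonempty (↥(Subgroup.closure (Dc D d)) ≃* Equiv.Perm (Fin 3)))
    (hO3 : ∀ d ∈ D, Nat.card (pCore 3 ↥(Subgroup.centralizer ({d} : Set G))) = 3)
    {d e f a : G} (hd : d ∈ D) (he : e ∈ Dc D d) (hf : f ∈ Dc D d) (hef : e ≠ f)
    (ha : a ∈ Dc D e) (had : a ≠ d) (haf : Commute a f) :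
    Nonempty (↥(Subgroup.closure D) ≃* Equiv.Perm (Fin 3) × Equiv.Perm (Fin 3)) := by
  haveI hNn := pCore_normal' (G := G) 3
  obtain ⟨nef, Ld⟩ := Dc_of_iso_S3 hS (hloc d hd) he hf hef
  obtain ⟨nda, Le⟩ := Dc_of_iso_S3 hS (hloc e he.1) (mem_Dc_symm hd he) ha had.symm
  have de : Commute d e := he.2.2
  have df : Commute d f := hf.2.2
  have ea : Commute e a := ha.2.2
  have d2 := tt_sq hS hd
  have e2 := tt_sq hS he.1
  have f2 := tt_sq hS hf.1
  have a2 := tt_sq hS ha.1
  have hfa : f ≠ a := by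
    rintro rfl
    exact nef ea
  have La := (Dc_of_iso_S3 hS (hloc a ha.1) (mem_Dc_symm he.1 ha) ⟨hf.1, hfa, haf⟩ hef).2
  have Lf := (Dc_of_iso_S3 hS (hloc f hf.1) (mem_Dc_symm hd hf) ⟨ha.1, hfa.symm, haf.symm⟩
    had.symm).2
  have wda : WRel D d a := by
    refine ⟨hd, ha.1, fun y hy => ⟨fun h => ?_, fun h => ?_⟩⟩
    · refine ⟨?_, ?_⟩
      · rintro rfl
        exact nda h.2
      · rcases Ld y ⟨hy, h.1, h.2⟩ with h' | h' | h'
        · rw [h']; exact ea.symm
        · rw [h']; exact haf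
        · rw [h']; exact (ea.symm.mul_right haf).mul_right ea.symm
    · refine ⟨?_, ?_⟩
      · rintro rfl
        exact nda h.2.symm
      · rcases La y ⟨hy, h.1, h.2⟩ with h' | h' | h'
        · rw [h']; exact de
        · rw [h']; exact df
        · rw [h']; exact (de.mul_right df).mul_right de
  have wef : WRel D e f := by
    refine ⟨he.1, hf.1, fun y hy => ⟨fun h => ?_, fun h => ?_⟩⟩
    · refine ⟨?_, ?_⟩
      · rintro rfl
        exact nef h.2
      · rcases Le y ⟨hy, h.1, h.2⟩ with h' | h' | h'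
        · rw [h']; exact df.symm
        · rw [h']; exact haf.symm
        · rw [h']; exact (df.symm.mul_right haf.symm).mul_right df.symm
    · refine ⟨?_, ?_⟩
      · rintro rfl
        exact nef h.2.symm
      · rcases Lf y ⟨hy, h.1, h.2⟩ with h' | h' | h'
        · rw [h']; exact de.symm
        · rw [h']; exact ea
        · rw [h']; exact (de.symm.mul_right ea).mul_right de.symm
  have ht : d * a ∈ pCore 3 G := wda.mul_mem_pCore hS hconj
  have hu : e * f ∈ pCore 3 G := wef.mul_mem_pCore hS hconj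
  have hu3 : (e * f) ^ 3 = 1 := tt_cube hS he.1 hf.1 nef
  have hu1 : e * f ≠ 1 := by
    intro h
    apply hef
    rw [eq_inv_of_mul_eq_one_left h, tt_inv hS hf.1]
  have hud : Commute (e * f) d := (de.symm.mul_left df.symm)
  have bda : d * a * d = a * d * a := tt_braid hS hd ha.1 nda
  obtain ⟨i1, i2, i3⟩ := k33_id d e a d2 e2 a2 de.eq ea.eq bda
  have bef : e * f * e = f * e * f := tt_braid hS he.1 hf.1 nef
  obtain ⟨j1, -, -⟩ := k33_id e d f e2 d2 f2 de.eq.symm df.eq bef
  have τinv : (d * e)⁻¹ = e * d := by rw [mul_inv_rev, tt_inv hS hd, tt_inv hS he.1]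
  have tinv : (d * a)⁻¹ = a * d := by rw [mul_inv_rev, tt_inv hS hd, tt_inv hS ha.1]
  have uinv : (e * f)⁻¹ = f * e := by rw [mul_inv_rev, tt_inv hS he.1, tt_inv hS hf.1]
  have hτt : (d * e) * (d * a) * (d * e)⁻¹ = (d * a)⁻¹ := by rw [τinv, tinv, i1]
  have hτu : (d * e) * (e * f) * (d * e)⁻¹ = (e * f)⁻¹ := by
    rw [τinv, uinv, ← j1, de.eq]
  have hτz : ∀ z ∈ Subgroup.zpowers (e * f), (d * e) * z * (d * e)⁻¹ = z⁻¹ := by
    intro z hz
    obtain ⟨k, rfl⟩ := Subgroup.mem_zpowers_iff.mp hz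
    rw [← conj_zpow, hτu, inv_zpow]
  have ctu : Commute (d * a) (e * f) :=
    (de.mul_right df).mul_left (ea.symm.mul_right haf)
  have step : ∀ x ∈ pCore 3 G, (d * e) * x * (d * e)⁻¹ = x⁻¹ → Commute x (e * f) →
      ∀ n ∈ pCore 3 G, n * d * n⁻¹ = x * d * x⁻¹ → (d * e) * n * (d * e)⁻¹ = n⁻¹ := by
    intro x hx hτx hxu n hn hnx
    have hz : Commute (x⁻¹ * n) d := by
      show x⁻¹ * n * d = d * (x⁻¹ * n)
      calc x⁻¹ * n * d = x⁻¹ * (n * d * n⁻¹) * n := by group
        _ = x⁻¹ * (x * d * x⁻¹) * n := by rw [hnx]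
        _ = d * (x⁻¹ * n) := by group
    have hzm := mem_zpowers_of_pCore (hO3 d hd) hu hud hu3 hu1 (mul_mem (inv_mem hx) hn) hz
    have hxz : Commute x (x⁻¹ * n) := by
      obtain ⟨k, hk⟩ := Subgroup.mem_zpowers_iff.mp hzm
      rw [← hk]
      exact hxu.zpow_right k
    have e1 : n = x * (x⁻¹ * n) := by group
    calc (d * e) * n * (d * e)⁻¹ = (d * e) * (x * (x⁻¹ * n)) * (d * e)⁻¹ := by rw [← e1]
      _ = ((d * e) * x * (d * e)⁻¹) * ((d * e) * (x⁻¹ * n) * (d * e)⁻¹) := by group
      _ = x⁻¹ * (x⁻¹ * n)⁻¹ := by rw [hτx, hτz _ hzm]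
      _ = ((x⁻¹ * n) * x)⁻¹ := by group
      _ = (x * (x⁻¹ * n))⁻¹ := by rw [hxz.eq]
      _ = n⁻¹ := by rw [← e1]
  have hinv : ∀ n ∈ pCore 3 G, (d * e) * n * (d * e)⁻¹ = n⁻¹ := by
    intro n hn
    have hm : n * d * n⁻¹ ∈ D := hconj n d hd
    have hmN : d⁻¹ * (n * d * n⁻¹) ∈ pCore 3 G := by
      have h1 : d⁻¹ * n * d⁻¹⁻¹ ∈ pCore 3 G := hNn.conj_mem n hn d⁻¹
      have e1 : d⁻¹ * (n * d * n⁻¹) = (d⁻¹ * n * d⁻¹⁻¹) * n⁻¹ := by group
      rw [e1]
      exact mul_mem h1 (inv_mem hn)
    have hw := wrel_of_mem_pCore_three hS hd hm hmN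
    have h2 := (hw.2.2 e he.1).mp ⟨he.2.1, de⟩
    rcases Le _ ⟨hm, h2.1.symm, h2.2.symm⟩ with h | h | h
    · exact step 1 (one_mem _) (by simp) (Commute.one_left _) n hn (by rw [h]; simp)
    · exact step (d * a) ht hτt ctu n hn (by rw [h, tinv, i2])
    · refine step (d * a)⁻¹ (inv_mem ht) ?_ ctu.inv_left n hn (by rw [h, inv_inv, tinv, i3])
      rw [inv_inv]
      calc (d * e) * (d * a)⁻¹ * (d * e)⁻¹ = ((d * e) * (d * a) * (d * e)⁻¹)⁻¹ := by group
        _ = d * a := by rw [hτt, inv_inv]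
  have hinvg : ∀ g : G, ∀ n ∈ pCore 3 G,
      (g * (d * e) * g⁻¹) * n * (g * (d * e) * g⁻¹)⁻¹ = n⁻¹ := by
    intro g n hn
    have h1 : g⁻¹ * n * g⁻¹⁻¹ ∈ pCore 3 G := hNn.conj_mem n hn g⁻¹
    have h2 := hinv _ h1
    calc (g * (d * e) * g⁻¹) * n * (g * (d * e) * g⁻¹)⁻¹
        = g * ((d * e) * (g⁻¹ * n * g⁻¹⁻¹) * (d * e)⁻¹) * g⁻¹ := by group
      _ = g * (g⁻¹ * n * g⁻¹⁻¹)⁻¹ * g⁻¹ := by rw [h2]
      _ = n⁻¹ := by group
  have hcov : ∀ y ∈ D, Commute y d ∨ Commute y e := by
    intro y hy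
    by_contra hcon
    push Not at hcon
    obtain ⟨nyd, nye⟩ := hcon
    have y2 := tt_sq hS hy
    have id1 := s4_conj_id d e y d2 e2 y2 de.eq (tt_braid hS hd hy (fun h => nyd h.symm))
      (tt_braid hS he.1 hy (fun h => nye h.symm))
    have g2inv : (e * y * e)⁻¹ = e * y * e := by
      rw [mul_inv_rev, mul_inv_rev, tt_inv hS he.1, tt_inv hS hy, mul_assoc]
    have h1 := hinvg y (e * f) hu
    have h2 := hinvg (e * y * e) (e * f) hu
    have h3 := hinv _ (inv_mem hu)
    rw [tt_inv hS hy] at h1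
    rw [g2inv, ← id1] at h2
    have h4 : (d * e) * (y * (d * e) * y) * (e * f) * ((d * e) * (y * (d * e) * y))⁻¹ = e * f := by
      calc (d * e) * (y * (d * e) * y) * (e * f) * ((d * e) * (y * (d * e) * y))⁻¹
          = (d * e) * ((y * (d * e) * y) * (e * f) * (y * (d * e) * y)⁻¹) * (d * e)⁻¹ := by group
        _ = (d * e) * (e * f)⁻¹ * (d * e)⁻¹ := by rw [h1]
        _ = e * f := by rw [h3, inv_inv]
    rw [h4] at h2
    apply hu1
    have h5 : (e * f) * (e * f) = 1 := by
      nth_rewrite 1 [h2]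
      group
    calc e * f = (e * f) * (e * f) * (e * f) := by rw [h5, one_mul]
      _ = (e * f) ^ 3 := by rw [pow_succ, pow_two]
      _ = 1 := hu3
  set A := Subgroup.closure (Dc D d) with hA
  set B := Subgroup.closure (Dc D e) with hB
  have hcomm : ∀ x ∈ Dc D d, ∀ y ∈ Dc D e, Commute x y := by
    intro x hx y hy
    have hxa : Commute x a := by
      rcases Ld x hx with h | h | h
      · rw [h]; exact ea
      · rw [h]; exact haf.symm
      · rw [h]; exact (ea.mul_left haf.symm).mul_left ea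
    have hxd : Commute x d := hx.2.2.symm
    rcases Le y hy with h | h | h
    · rw [h]; exact hxd
    · rw [h]; exact hxa
    · rw [h]; exact (hxd.mul_right hxa).mul_right hxd
  have hAB : ∀ (x : A) (y : B), Commute (A.subtype x) (B.subtype y) := fun x y =>
    commute_closure_closure hcomm x.2 y.2
  obtain ⟨φA⟩ := hloc d hd
  obtain ⟨φB⟩ := hloc e he.1
  have hdisj : Disjoint A B := by
    rw [disjoint_iff, eq_bot_iff]
    intro x hx
    obtain ⟨hxA, hxB⟩ := Subgroup.mem_inf.mp hx
    have h1 : φA ⟨x, hxA⟩ = 1 := by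
      apply S3_center
      intro τ
      obtain ⟨z, rfl⟩ := φA.surjective τ
      rw [← map_mul, ← map_mul]
      congr 1
      apply Subtype.ext
      exact (commute_closure_closure hcomm z.2 hxB).eq.symm
    have h2 : (⟨x, hxA⟩ : A) = 1 := φA.injective (h1.trans (map_one φA).symm)
    exact Subgroup.mem_bot.mpr (congrArg Subtype.val h2)
  have hinjΨ : Function.Injective (MonoidHom.noncommCoprod A.subtype B.subtype hAB) := by
    rw [MonoidHom.noncommCoprod_injective]
    refine ⟨A.subtype_injective, B.subtype_injective, ?_⟩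
    rw [Subgroup.range_subtype, Subgroup.range_subtype]
    exact hdisj
  have hrange : (MonoidHom.noncommCoprod A.subtype B.subtype hAB).range = Subgroup.closure D := by
    rw [MonoidHom.noncommCoprod_range, Subgroup.range_subtype, Subgroup.range_subtype]
    apply le_antisymm
    · apply sup_le
      · exact Subgroup.closure_mono (fun x hx => hx.1)
      · exact Subgroup.closure_mono (fun x hx => hx.1)
    · rw [Subgroup.closure_le]
      intro y hy
      rcases hcov y hy with h | h
      · by_cases hyd : y = d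
        · rw [hyd]
          exact (le_sup_right : B ≤ A ⊔ B) (Subgroup.subset_closure (mem_Dc_symm hd he))
        · exact (le_sup_left : A ≤ A ⊔ B) (Subgroup.subset_closure ⟨hy, hyd, h.symm⟩)
      · by_cases hye : y = e
        · rw [hye]
          exact (le_sup_left : A ≤ A ⊔ B) (Subgroup.subset_closure he)
        · exact (le_sup_right : B ≤ A ⊔ B) (Subgroup.subset_closure ⟨hy, hye, h.symm⟩)
  exact ⟨(((MulEquiv.prodCongr φA φB).symm.trans (MonoidHom.ofInjective hinjΨ)).trans
    (MulEquiv.subgroupCongr hrange)).symm⟩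

end

end Cfsg.Agent.Lib.Helper91
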