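import Cfsg.Agent.Lib.Helper91.TTW2
import Cfsg.Agent.S2530

/-!
# Identification of `S₅` among the primitive 3-transposition groups
-/

set_option autoImplicit false

namespace Cfsg.Agent.Lib.Helper91

open Cfsg Cfsg.Agent.Lib.Helper28 CoxeterMatrix
open scoped commutatorElement

theorem S5_center_aux : ∀ σ : Equiv.Perm (Fin 5), (Equiv.swap 0 1 * σ = σ * Equiv.swap 0 1 ∧
    Equiv.swap 1 2 * σ = σ * Equiv.swap 1 2 ∧ Equiv.swap 2 3 * σ = σ * Equiv.swap 2 3 ∧
    Equiv.swap 3 4 * σ = σ * Equiv.swap 3 4) → σ = 1 := by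
  decide +kernel

/-- a normal subgroup of `S₅` not containing a given 3-cycle is trivial -/
theorem S5_normal (N : Subgroup (Equiv.Perm (Fin 5))) [hN : N.Normal]
    (h : Equiv.swap (0 : Fin 5) 1 * Equiv.swap 1 2 ∉ N) : N = ⊥ := by
  have hsimple : IsSimpleGroup (alternatingGroup (Fin 5)) := alternatingGroup.isSimpleGroup_five
  rcases IsSimpleGroup.eq_bot_or_eq_top_of_normal (N.subgroupOf (alternatingGroup (Fin 5)))
    inferInstance with h1 | h1
  · rw [Subgroup.subgroupOf_eq_bot, disjoint_iff] at h1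
    have hcen : N ≤ Subgroup.center (Equiv.Perm (Fin 5)) := by
      intro σ hσ
      rw [Subgroup.mem_center_iff]
      intro τ
      have h2 : ⁅σ, τ⁆ ∈ N ⊓ alternatingGroup (Fin 5) := by
        refine Subgroup.mem_inf.mpr ⟨?_, ?_⟩
        · rw [commutatorElement_def]
          have e : σ * τ * σ⁻¹ * τ⁻¹ = σ * (τ * σ⁻¹ * τ⁻¹) := by group
          rw [e]
          exact mul_mem hσ (hN.conj_mem _ (inv_mem hσ) τ)
        · rw [Equiv.Perm.mem_alternatingGroup, commutatorElement_def]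
          simp only [map_mul, map_inv, Int.units_inv_eq_self]
          rw [mul_assoc, mul_mul_mul_comm, Int.units_mul_self, Int.units_mul_self, one_mul]
      rw [h1, Subgroup.mem_bot, commutatorElement_eq_one_iff_mul_comm] at h2
      exact h2.symm
    rw [eq_bot_iff]
    intro σ hσ
    have h3 := Subgroup.mem_center_iff.mp (hcen hσ)
    exact Subgroup.mem_bot.mpr (S5_center_aux σ ⟨h3 _, h3 _, h3 _, h3 _⟩)
  · exfalso
    rw [Subgroup.subgroupOf_eq_top] at h1
    apply h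
    apply h1
    rw [Equiv.Perm.mem_alternatingGroup]
    decide

theorem pow_mul_swap' {G : Type*} [Group G] (a b : G) (n : ℕ) (h : (a * b) ^ n = 1) :
    (b * a) ^ n = 1 := by
  have e : b * a = a⁻¹ * (a * b) * a⁻¹⁻¹ := by group
  rw [e, conj_pow, h]
  group

/-- four involutions with the Coxeter relations of type `A₄` give an embedding of `S₅` -/
theorem exists_injective_hom_S5 {G : Type*} [Group G] (s₁ s₂ s₃ s₄ : G) (h₁ : s₁ * s₁ = 1)
    (h₂ : s₂ * s₂ = 1) (h₃ : s₃ * s₃ = 1) (h₄ : s₄ * s₄ = 1) (h₁₂ : (s₁ * s₂) ^ 3 = 1)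
    (h₂₃ : (s₂ * s₃) ^ 3 = 1) (h₃₄ : (s₃ * s₄) ^ 3 = 1) (h₁₃ : (s₁ * s₃) ^ 2 = 1)
    (h₁₄ : (s₁ * s₄) ^ 2 = 1) (h₂₄ : (s₂ * s₄) ^ 2 = 1) (hne : s₁ * s₂ ≠ 1) :
    ∃ ψ : Equiv.Perm (Fin 5) →* G, Function.Injective ψ ∧
      ψ (Equiv.swap 0 1) = s₁ ∧ ψ (Equiv.swap 1 2) = s₂ ∧ ψ (Equiv.swap 2 3) = s₃ ∧
      ψ (Equiv.swap 3 4) = s₄ := by
  obtain ⟨cs, hcs⟩ := Cfsg.Agent.S2530.result 4
  have hl : IsLiftable (CoxeterMatrix.A 4) ![s₁, s₂, s₃, s₄] := by
    intro i j
    fin_cases i <;> fin_cases j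
    · change (s₁ * s₁) ^ 1 = 1
      rw [pow_one, h₁]
    · exact h₁₂
    · exact h₁₃
    · exact h₁₄
    · exact pow_mul_swap' _ _ _ h₁₂
    · change (s₂ * s₂) ^ 1 = 1
      rw [pow_one, h₂]
    · exact h₂₃
    · exact h₂₄
    · exact pow_mul_swap' _ _ _ h₁₃
    · exact pow_mul_swap' _ _ _ h₂₃
    · change (s₃ * s₃) ^ 1 = 1
      rw [pow_one, h₃]
    · exact h₃₄
    · exact pow_mul_swap' _ _ _ h₁₄
    · exact pow_mul_swap' _ _ _ h₂₄
    · exact pow_mul_swap' _ _ _ h₃₄
    · change (s₄ * s₄) ^ 1 = 1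
      rw [pow_one, h₄]
  have hf : ∀ i, cs.lift ⟨_, hl⟩ (cs.simple i) = ![s₁, s₂, s₃, s₄] i := cs.lift_apply_simple hl
  have e0 : cs.lift ⟨_, hl⟩ (Equiv.swap 0 1) = s₁ := by
    have := hf 0
    rw [hcs] at this
    exact this
  have e1 : cs.lift ⟨_, hl⟩ (Equiv.swap 1 2) = s₂ := by
    have := hf 1
    rw [hcs] at this
    exact this
  have e2 : cs.lift ⟨_, hl⟩ (Equiv.swap 2 3) = s₃ := by
    have := hf 2
    rw [hcs] at this
    exact this
  have e3 : cs.lift ⟨_, hl⟩ (Equiv.swap 3 4) = s₄ := by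
    have := hf 3
    rw [hcs] at this
    exact this
  refine ⟨cs.lift ⟨_, hl⟩, ?_, e0, e1, e2, e3⟩
  rw [← MonoidHom.ker_eq_bot_iff]
  apply S5_normal
  intro h
  apply hne
  have h' := MonoidHom.mem_ker.mp h
  rw [map_mul, e0, e1] at h'
  exact h'

section
variable {G : Type*} [Group G] [Finite G] {D : Set G}

theorem sq_of_commute (hS : IsThreeTranspositionSet D) {x y : G} (hx : x ∈ D) (hy : y ∈ D)
    (h : Commute x y) : (x * y) ^ 2 = 1 := by
  rw [h.mul_pow, pow_two, pow_two, tt_sq hS hx, tt_sq hS hy, one_mul]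

/-- a primitive 3-transposition group with a configuration is `S₅` -/
theorem iso_S5_of_cfg (hG : IsThreeTranspositionGroup D) (hprim : IsPrimitiveUnderConj D)
    {d e f a : G} (C : Cfg D d e f a) : Nonempty (G ≃* Equiv.Perm (Fin 5)) := by
  obtain ⟨hS, hconj, hgen⟩ := id hG
  have hd := C.hd
  have ha := C.ha
  have he : e ∈ D := C.w.1.1
  have hf : f ∈ D := C.w.2.1.1
  have de : Commute d e := C.w.1.2.2
  have df : Commute d f := C.w.2.1.2.2
  have hw : ∃ a ∈ D, ∃ b ∈ D, a ≠ b ∧ Commute a b := ⟨d, hd, e, he, C.w.1.2.1.symm, de⟩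
  have hda : ¬ Commute d a := fun h => C.ad h.symm
  obtain ⟨ψ, hinj, p1, p2, p3, p4⟩ := exists_injective_hom_S5 d a f e (tt_sq hS hd) (tt_sq hS ha)
    (tt_sq hS hf) (tt_sq hS he) (tt_cube hS hd ha hda) (tt_cube hS ha hf C.af)
    (tt_cube hS hf he (fun h => C.ef h.symm)) (sq_of_commute hS hd hf df) (sq_of_commute hS hd he de)
    (sq_of_commute hS ha he C.ae) (by
      intro h
      apply hda
      rw [eq_inv_of_mul_eq_one_left h, tt_inv hS ha])
  set R := ψ.range with hR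
  have dR : d ∈ R := ⟨_, p1⟩
  have aR : a ∈ R := ⟨_, p2⟩
  have fR : f ∈ R := ⟨_, p3⟩
  have eR : e ∈ R := ⟨_, p4⟩
  set E : Set G := {x | ∃ σ ∈ R, x = σ * d * σ⁻¹} with hE
  have hED : E ⊆ D := by
    rintro _ ⟨σ, -, rfl⟩
    exact hconj σ d hd
  have hER : ∀ x ∈ E, x ∈ R := by
    rintro _ ⟨σ, hσ, rfl⟩
    exact mul_mem (mul_mem hσ dR) (inv_mem hσ)
  have hEconj : ∀ ρ ∈ R, ∀ x ∈ E, ρ * x * ρ⁻¹ ∈ E := by
    rintro ρ hρ _ ⟨σ, hσ, rfl⟩
    exact ⟨ρ * σ, mul_mem hρ hσ, by group⟩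
  have step : ∀ x ∈ E, ∀ z ∈ D, z ∈ R → ¬ Commute x z → z ∈ E := by
    intro x hx z hz hzR hn
    have h1 := hEconj (x * z) (mul_mem (hER x hx) hzR) x hx
    have br : x * z * x = z * x * z := tt_braid hS (hED hx) hz hn
    have e1 : x * z * x * (x * z)⁻¹ = z := by
      rw [mul_inv_rev, tt_inv hS (hED hx), tt_inv hS hz, br]
      calc z * x * z * (z * x) = z * x * (z * z) * x := by simp only [mul_assoc]
        _ = z * (x * x) := by rw [tt_sq hS hz]; simp only [mul_assoc, mul_one]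
        _ = z := by rw [tt_sq hS (hED hx), mul_one]
    rwa [e1] at h1
  have dE : d ∈ E := ⟨1, one_mem _, by simp⟩
  have aE : a ∈ E := step d dE a ha aR hda
  have fE : f ∈ E := step a aE f hf fR C.af
  have eE : e ∈ E := step f fE e he eR (fun h => C.ef h.symm)
  have gE : e * f * e ∈ E := by
    have := hEconj e eR f fE
    rwa [tt_inv hS he] at this
  have hEeq : E = D := by
    by_contra hne
    obtain ⟨x, hx, y, hy, hyE, hxy⟩ := exists_cross_commute (connected_of_primitive hG hprim hw)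
      hED ⟨d, dE⟩ hne
    obtain ⟨σ, hσ, rfl⟩ := hx
    have hy0 : σ⁻¹ * y * σ ∈ Dc D d := by
      refine ⟨?_, ?_, (commute_conj_iff σ d y).mp hxy⟩
      · have := hconj σ⁻¹ y hy
        rwa [inv_inv] at this
      · intro h
        apply hyE
        refine ⟨σ, hσ, ?_⟩
        rw [← h]; group
    have hy1 : σ⁻¹ * y * σ ∈ E := by
      rcases Dc_eq_of_cfg hG hprim C hy0 with h | h | h
      · rw [h]; exact eE
      · rw [h]; exact fE
      · rw [h]; exact gE
    apply hyE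
    have := hEconj σ hσ _ hy1
    have e1 : σ * (σ⁻¹ * y * σ) * σ⁻¹ = y := by group
    rwa [e1] at this
  have hsurj : Function.Surjective ψ := by
    rw [← MonoidHom.range_eq_top, eq_top_iff, ← hgen, Subgroup.closure_le]
    intro x hx
    rw [← hEeq] at hx
    exact hER x hx
  exact ⟨(MulEquiv.ofBijective ψ ⟨hinj, hsurj⟩).symm⟩

/-- a normal subgroup of odd order of `⟨D_x⟩` produces `W`-related members of `D_x` -/
theorem wrel_of_odd_normal (hS : IsThreeTranspositionSet D) {x : G} {N : Subgroup G}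
    (hnorm : ∀ k ∈ Dc D x, ∀ t ∈ N, k * t * k⁻¹ ∈ N) (hodd : ∀ t ∈ N, t * t = 1 → t = 1)
    {e f : G} (he : e ∈ Dc D x) (hf : f ∈ Dc D x) (hne : e ≠ f) (hu : e * f ∈ N) :
    WRel (Dc D x) e f := by
  have key : ∀ e f : G, e ∈ Dc D x → f ∈ Dc D x → e ≠ f → e * f ∈ N → ∀ y ∈ Dc D x, y ≠ e →
      Commute e y → y ≠ f ∧ Commute f y := by
    intro e f he hf hne hu y hy hye hey
    have e2 := tt_sq hS he.1
    have f2 := tt_sq hS hf.1
    have y2 := tt_sq hS hy.1
    have hnef : ¬ Commute e f := by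
      intro hc
      apply hne
      have h1 : e * f = 1 := by
        apply hodd _ hu
        calc e * f * (e * f) = e * (f * e) * f := by simp only [mul_assoc]
          _ = e * (e * f) * f := by rw [hc.eq]
          _ = (e * e) * (f * f) := by simp only [mul_assoc]
          _ = 1 := by rw [e2, f2, one_mul]
      rw [eq_inv_of_mul_eq_one_left h1, tt_inv hS hf.1]
    have hyf : y ≠ f := by
      rintro rfl
      exact hnef hey
    refine ⟨hyf, ?_⟩
    by_contra hfy
    have br : f * y * f = y * f * y := tt_braid hS hf.1 hy.1 hfy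
    have h1 : y * (e * f) * y⁻¹ ∈ N := hnorm y hy _ hu
    have h2 : (e * f)⁻¹ * (y * (e * f) * y⁻¹) ∈ N := mul_mem (inv_mem hu) h1
    have e3 : (e * f)⁻¹ * (y * (e * f) * y⁻¹) = y * f := by
      rw [mul_inv_rev, tt_inv hS he.1, tt_inv hS hf.1, tt_inv hS hy.1]
      calc f * e * (y * (e * f) * y) = f * (e * y) * e * f * y := by simp only [mul_assoc]
        _ = f * (y * e) * e * f * y := by rw [hey.eq]
        _ = f * y * (e * e) * f * y := by simp only [mul_assoc]
        _ = (f * y * f) * y := by rw [e2]; simp only [mul_assoc, mul_one]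
        _ = y * f * (y * y) := by rw [br]; simp only [mul_assoc]
        _ = y * f := by rw [y2, mul_one]
    rw [e3] at h2
    have h3 : e * f * (y * f)⁻¹ ∈ N := mul_mem hu (inv_mem h2)
    have e4 : e * f * (y * f)⁻¹ = e * y := by
      rw [mul_inv_rev, tt_inv hS hf.1, tt_inv hS hy.1]
      calc e * f * (f * y) = e * (f * f) * y := by simp only [mul_assoc]
        _ = e * y := by rw [f2, mul_one]
    rw [e4] at h3
    have h4 : e * y = 1 := by
      apply hodd _ h3
      calc e * y * (e * y) = e * (y * e) * y := by simp only [mul_assoc]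
        _ = e * (e * y) * y := by rw [hey.eq]
        _ = (e * e) * (y * y) := by simp only [mul_assoc]
        _ = 1 := by rw [e2, y2, one_mul]
    apply hye
    rw [eq_inv_of_mul_eq_one_right h4, tt_inv hS he.1]
  have hu' : f * e ∈ N := by
    have := inv_mem hu
    rwa [mul_inv_rev, tt_inv hS he.1, tt_inv hS hf.1] at this
  exact ⟨he, hf, fun y hy => ⟨fun h => key e f he hf hne hu y hy h.1 h.2,
    fun h => key f e hf he hne.symm hu' y hy h.1 h.2⟩⟩

/-- if `O(⟨D_x⟩)` is not central, `D_x` has a non-trivial `W`-class -/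
theorem exists_wrel_of_oddCore (hS : IsThreeTranspositionSet D)
    (hconj : ∀ g : G, ∀ d ∈ D, g * d * g⁻¹ ∈ D) {x : G}
    (h : ¬ oddCore ↥(Subgroup.closure (Dc D x)) ≤ Subgroup.center ↥(Subgroup.closure (Dc D x))) :
    ∃ e f : G, e ≠ f ∧ WRel (Dc D x) e f := by
  set K := Subgroup.closure (Dc D x) with hK
  have h1 : ∃ N : Subgroup K, N.Normal ∧ (Nat.card N).Coprime 2 ∧ ¬ N ≤ Subgroup.center K := by
    by_contra hcon
    push Not at hcon
    apply h
    unfold oddCore pPrimeCore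
    apply sSup_le
    rintro N ⟨hN1, hN2⟩
    exact hcon N hN1 hN2
  obtain ⟨N, hNn, hNodd, hNc⟩ := h1
  have h2 : ∃ n ∈ N, n ∉ Subgroup.center K := by
    by_contra hcon
    push Not at hcon
    exact hNc hcon
  obtain ⟨n, hn, hnc⟩ := h2
  have hgenK : Subgroup.closure {k : K | (k : G) ∈ Dc D x} = ⊤ :=
    Subgroup.closure_closure_coe_preimage
  have h3 : ∃ e ∈ {k : K | (k : G) ∈ Dc D x}, ¬ Commute n e := by
    by_contra hcon
    push Not at hcon
    exact hnc (mem_center_of_commute_gen hgenK hcon)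
  obtain ⟨e, he, hne⟩ := h3
  have heD : (e : G) ∈ Dc D x := he
  have hfD : (n : G) * e * (n : G)⁻¹ ∈ Dc D x := orbD_subset hconj heD ⟨n, n.2, rfl⟩
  have heinv : e⁻¹ = e := Subtype.ext (tt_inv hS heD.1)
  refine ⟨e, (n : G) * e * (n : G)⁻¹, ?_, ?_⟩
  · intro hh
    apply hne
    apply Subtype.ext
    show (n : G) * e = e * n
    calc (n : G) * e = (n : G) * e * (n : G)⁻¹ * n := by group
      _ = e * n := by rw [← hh]
  · apply wrel_of_odd_normal hS (N := N.map K.subtype) _ _ heD hfD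
    · intro hh
      apply hne
      apply Subtype.ext
      show (n : G) * e = e * n
      calc (n : G) * e = (n : G) * e * (n : G)⁻¹ * n := by group
        _ = e * n := by rw [← hh]
    · exact ⟨e * (n * e * n⁻¹), tt_mul_conj_mem hNn heinv hn, rfl⟩
    · rintro k hk _ ⟨t, ht, rfl⟩
      exact ⟨⟨k, Subgroup.subset_closure hk⟩ * t * ⟨k, Subgroup.subset_closure hk⟩⁻¹,
        hNn.conj_mem t ht _, rfl⟩
    · rintro _ ⟨t, ht, rfl⟩ ht2
      have ht2' : t * t = 1 := Subtype.ext ht2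
      have h5 : orderOf (⟨t, ht⟩ : N) ∣ 2 := by
        apply orderOf_dvd_of_pow_eq_one
        apply Subtype.ext
        show t ^ 2 = 1
        rw [pow_two, ht2']
      have h6 : orderOf (⟨t, ht⟩ : N) ∣ Nat.card N := orderOf_dvd_natCard _
      have h7 : orderOf (⟨t, ht⟩ : N) = 1 := Nat.eq_one_of_dvd_coprimes hNodd h6 h5
      rw [orderOf_eq_one_iff] at h7
      have h8 : t = 1 := congrArg Subtype.val h7
      rw [h8]; rfl

end

end Cfsg.Agent.Lib.Helper91
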